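import Cfsg.Agent.ShortPres.Shift.Seven

/-!
# At most four points
-/

set_option autoImplicit false

namespace Cfsg.Agent.ShortPres.Shift

open Equiv Equiv.Perm Cfsg.Agent.AltMult Cfsg.Agent.ShortPres

theorem hasPres_of_subsingleton (T : Type*) [Group T] [Subsingleton T] : HasPres T 0 := by
  refine ⟨0, FreeGroup.lift Fin.elim0, fun x => ⟨1, Subsingleton.elim _ _⟩, ∅, le_rfl, ?_⟩
  ext x
  simp [MonoidHom.mem_ker, Subsingleton.elim x 1]

theorem card_relations {m : ℕ} (hm : m ≤ 2) {G : Type*} [DecidableEq G] (f : Fin m → G)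
    (g : Fin m × Fin m → G) :
    ((Finset.univ.image f) ∪ (Finset.univ.filter fun e : Fin m × Fin m => e.1 < e.2).image g).card ≤ 3 := by
  refine (Finset.card_union_le _ _).trans
    ((Nat.add_le_add Finset.card_image_le Finset.card_image_le).trans ?_)
  interval_cases m <;> decide

theorem alt_tiny {m : ℕ} (hm : m ≤ 2) : HasPres (alternatingGroup (Pts m)) 3 := by
  classical
  let Φ : FreeGroup (Fin m) →* Perm (Pts m) := FreeGroup.lift C
  let R : Finset (FreeGroup (Fin m)) := (Finset.univ.image fun i => FreeGroup.of i ^ 3) ∪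
    ((Finset.univ.filter fun e : Fin m × Fin m => e.1 < e.2).image
      fun e => (FreeGroup.of e.1 * FreeGroup.of e.2) ^ 2)
  have hrel : ∀ x ∈ (↑R : Set (FreeGroup (Fin m))), FreeGroup.lift C x = 1 := fun x hx => by
    rcases Finset.mem_union.mp (Finset.mem_coe.mp hx) with h | h
    · obtain ⟨i, -, rfl⟩ := Finset.mem_image.mp h
      simp [C_cube]
    · obtain ⟨⟨i, j⟩, hij, rfl⟩ := Finset.mem_image.mp h
      simpa using C_sq (Finset.mem_filter.mp hij).2.ne
  set P := PresentedGroup.toGroup hrel
  have h3 : ∀ i, (PresentedGroup.of i : PresentedGroup (↑R : Set (FreeGroup (Fin m)))) ^ 3 = 1 :=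
    fun i => by
      rw [show (PresentedGroup.of i : PresentedGroup (↑R : Set (FreeGroup (Fin m)))) =
        PresentedGroup.mk _ (FreeGroup.of i) from rfl, ← map_pow]
      exact PresentedGroup.one_of_mem
        (Finset.mem_union_left _ (Finset.mem_image_of_mem _ (Finset.mem_univ _)))
  have h2 : ∀ i j, i ≠ j → (PresentedGroup.of i * PresentedGroup.of j :
      PresentedGroup (↑R : Set (FreeGroup (Fin m)))) ^ 2 = 1 := by
    have key : ∀ i j, i < j → (PresentedGroup.of i * PresentedGroup.of j :
        PresentedGroup (↑R : Set (FreeGroup (Fin m)))) ^ 2 = 1 := fun i j h => by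
      show (PresentedGroup.mk _ (FreeGroup.of i) * PresentedGroup.mk _ (FreeGroup.of j)) ^ 2 = 1
      rw [← map_mul, ← map_pow]
      exact PresentedGroup.one_of_mem
        (Finset.mem_union_right _ (Finset.mem_image.mpr ⟨(i, j), by simp [h], rfl⟩))
    intro i j h
    rcases lt_or_gt_of_ne h with h | h
    exacts [key i j h, sq_flip (key j i h)]
  obtain ⟨-, hinj, himg⟩ := carm P (u := (Sum.inl 0 : Pts m)) (v := Sum.inl 1) (by simp)
    ⟨Sum.inr, Sum.inr_injective⟩ (fun x => by simp) (fun x => by simp) PresentedGroup.of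
    (fun x => PresentedGroup.toGroup.of hrel) h3 h2
  rw [PresentedGroup.closure_range_of] at hinj
  have halt : ∀ x, Φ x ∈ alternatingGroup (Pts m) := by
    intro x
    induction x using FreeGroup.induction_on with
    | C1 => simp
    | of i => exact mem_alternatingGroup.mpr (by simp [Φ, sign_C])
    | inv_of i h => rw [map_inv]; exact inv_mem h
    | mul a b ha hb => rw [map_mul]; exact mul_mem ha hb
  have hP : ∀ x, P (PresentedGroup.mk _ x) = Φ x := fun x => by
    refine DFunLike.congr_fun (f := P.comp (PresentedGroup.mk _)) (g := Φ) ?_ x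
    apply FreeGroup.ext_hom
    intro i
    rw [MonoidHom.comp_apply]
    simp only [Φ, FreeGroup.lift_apply_of]
    exact PresentedGroup.toGroup.of hrel
  refine ⟨m, Φ.codRestrict _ halt, fun σ => ?_, R, card_relations hm _ _, ?_⟩
  · obtain ⟨g, -, hg⟩ := himg σ.1 (mem_alternatingGroup.mp σ.2) fun t ht => absurd (by
      rcases t with i | x
      · exact ⟨Sum.inl i, by fin_cases i <;> rfl⟩
      · exact ⟨Sum.inr x, rfl⟩) ht
    obtain ⟨x, rfl⟩ := PresentedGroup.mk_surjective _ g
    exact ⟨x, Subtype.ext ((hP x).symm.trans hg)⟩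
  · ext x
    rw [MonoidHom.mem_ker, Subtype.ext_iff]
    show Φ x = 1 ↔ _
    rw [← hP, ← PresentedGroup.mk_eq_one_iff]
    exact ⟨fun h => hinj (Subgroup.mem_top _) (Subgroup.mem_top _) (h.trans (map_one _).symm),
      fun h => by rw [h, map_one]⟩

theorem sym_tiny {m : ℕ} (hm : m ≤ 2) : HasPres (Perm (Pts m)) 6 := by
  classical
  let τ : Perm (Pts m) := swap (Sum.inl 0) (Sum.inl 1)
  let t : FreeGroup (Fin (m + 1)) := FreeGroup.of (Fin.last m)
  let e : Fin m → FreeGroup (Fin (m + 1)) := fun i => FreeGroup.of i.castSucc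
  let Φ : FreeGroup (Fin (m + 1)) →* Perm (Pts m) := FreeGroup.lift (Fin.snoc C τ)
  have hΦe : ∀ i, Φ (e i) = C i := fun i => by simp [Φ, e]
  have hΦt : Φ t = τ := by simp [Φ, t]
  have hconj : ∀ i, τ * C i * τ⁻¹ = (C i)⁻¹ := fun i => by
    rw [C, conj_cyc, cyc_inv (by simp) (by simp) (by simp)]
    simp [τ, swap_apply_of_ne_of_ne]
  let R : Finset (FreeGroup (Fin (m + 1))) := (((Finset.univ.image fun i => e i ^ 3) ∪
    ((Finset.univ.filter fun p : Fin m × Fin m => p.1 < p.2).image
      fun p => (e p.1 * e p.2) ^ 2)) ∪ (Finset.univ.image fun i => t * e i * t⁻¹ * e i)) ∪ {t * t}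
  have hR : R.card ≤ 6 := by
    refine (Finset.card_union_le _ _).trans ((Nat.add_le_add
      ((Finset.card_union_le _ _).trans (Nat.add_le_add (card_relations hm _ _) Finset.card_image_le))
      (le_of_eq (Finset.card_singleton _))).trans ?_)
    simp
    omega
  have hrel : ∀ x ∈ (↑R : Set (FreeGroup (Fin (m + 1)))), Φ x = 1 := fun x hx => by
    simp only [R, Finset.mem_coe, Finset.mem_union, Finset.mem_image, Finset.mem_univ, true_and,
      Finset.mem_filter, Finset.mem_singleton] at hx
    rcases hx with ((⟨i, rfl⟩ | ⟨⟨i, j⟩, hij, rfl⟩) | ⟨i, rfl⟩) | rfl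
    · rw [map_pow, hΦe, C_cube]
    · rw [map_pow, map_mul, hΦe, hΦe, C_sq hij.ne]
    · rw [map_mul, map_mul, map_mul, map_inv, hΦt, hΦe, hconj, inv_mul_cancel]
    · rw [map_mul, hΦt, swap_mul_self]
  set P := PresentedGroup.toGroup (f := Fin.snoc C τ) hrel
  set mk := PresentedGroup.mk (↑R : Set (FreeGroup (Fin (m + 1))))
  have hP : ∀ x, P (mk x) = Φ x := fun x => by
    refine DFunLike.congr_fun (f := P.comp mk) (g := Φ) ?_ x
    apply FreeGroup.ext_hom
    intro i
    rw [MonoidHom.comp_apply]
    simp only [Φ, FreeGroup.lift_apply_of]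
    exact PresentedGroup.toGroup.of hrel
  have one : ∀ x ∈ R, mk x = 1 := fun x hx => PresentedGroup.one_of_mem hx
  obtain ⟨hfin, hinj, himg⟩ := carm P (u := (Sum.inl 0 : Pts m)) (v := Sum.inl 1) (by simp)
    ⟨Sum.inr, Sum.inr_injective⟩ (fun x => by simp) (fun x => by simp) (fun i => mk (e i))
    (fun i => by rw [hP, hΦe]; rfl) (fun i => by rw [← map_pow]; exact one _ (by simp [R]))
    (fun i j hij => by
      rcases lt_or_gt_of_ne hij with h | h
      · rw [← map_mul, ← map_pow]
        exact one _ (by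
          simp only [R, Finset.mem_union, Finset.mem_image]
          exact Or.inl (Or.inl (Or.inr ⟨(i, j), by simp [h], rfl⟩)))
      · refine sq_flip ?_
        rw [← map_mul, ← map_pow]
        exact one _ (by
          simp only [R, Finset.mem_union, Finset.mem_image]
          exact Or.inl (Or.inl (Or.inr ⟨(j, i), by simp [h], rfl⟩))))
  set N := Subgroup.closure (Set.range fun i => mk (e i)) with hN
  have htn : mk t ∈ Subgroup.normalizer (N : Set _) := by
    refine mem_normalizer_closure ?_
    rintro _ ⟨i, rfl⟩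
    have h1 : mk t * mk (e i) * (mk t)⁻¹ * mk (e i) = 1 := by
      rw [← map_inv, ← map_mul, ← map_mul, ← map_mul]
      exact one _ (by simp [R])
    rw [eq_inv_of_mul_eq_one_left h1]
    exact inv_mem (Subgroup.subset_closure ⟨i, rfl⟩)
  have htt : mk t * mk t = 1 := by rw [← map_mul]; exact one _ (by simp [R])
  have htinv : (mk t)⁻¹ = mk t := inv_eq_of_mul_eq_one_right htt
  have split : ∀ g, g ∈ N ∨ mk t * g ∈ N := by
    let H : Subgroup (PresentedGroup (↑R : Set (FreeGroup (Fin (m + 1))))) :=
      { carrier := {g | g ∈ N ∨ mk t * g ∈ N}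
        one_mem' := Or.inl (one_mem _)
        mul_mem' := by
          rintro x y (hx | hx) (hy | hy)
          · exact Or.inl (mul_mem hx hy)
          · refine Or.inr ?_
            have := mul_mem (conj_mem_of_normalizer htn hx) hy
            rw [show mk t * x * (mk t)⁻¹ * (mk t * y) = mk t * (x * y) by group] at this
            exact this
          · exact Or.inr (by rw [← mul_assoc]; exact mul_mem hx hy)
          · refine Or.inl ?_
            have := mul_mem (conj_mem_of_normalizer' htn hx) hy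
            rw [show (mk t)⁻¹ * (mk t * x) * mk t * (mk t * y) = x * (mk t * mk t) * y by group,
              htt, mul_one] at this
            exact this
        inv_mem' := by
          rintro x (hx | hx)
          · exact Or.inl (inv_mem hx)
          · refine Or.inr ?_
            have := conj_mem_of_normalizer htn (inv_mem hx)
            rw [show mk t * (mk t * x)⁻¹ * (mk t)⁻¹ = mk t * x⁻¹ * ((mk t)⁻¹ * (mk t)⁻¹) by group,
              htinv, htt, mul_one] at this
            exact this }
    have hH : H = ⊤ := by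
      rw [eq_top_iff, ← PresentedGroup.closure_range_of, Subgroup.closure_le]
      rintro _ ⟨i, rfl⟩
      induction i using Fin.lastCases with
      | last => exact Or.inr (show mk t * mk t ∈ N from htt ▸ one_mem _)
      | cast i => exact Or.inl (Subgroup.subset_closure ⟨i, rfl⟩)
    exact fun g => (show g ∈ H from hH ▸ Subgroup.mem_top g)
  have hsN : ∀ g ∈ N, sign (P g) = 1 := by
    intro g hg
    have h : N ≤ (Perm.sign.comp P).ker := by
      rw [hN, Subgroup.closure_le]
      rintro _ ⟨i, rfl⟩
      show sign (P (mk (e i))) = 1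
      rw [hP, hΦe, sign_C]
    exact h hg
  have hPt : sign (P (mk t)) = -1 := by rw [hP, hΦt]; exact sign_swap (by simp)
  have hcov : ∀ x : Pts m, x ∉ Set.range (join (Sum.inl 0) (Sum.inl 1) (by simp)
      (⟨Sum.inr, Sum.inr_injective⟩ : Fin m ↪ Pts m) (fun x => by simp) fun x => by simp) → False :=
    fun x hx => hx (by
      rcases x with i | y
      · exact ⟨Sum.inl i, by fin_cases i <;> rfl⟩
      · exact ⟨Sum.inr y, rfl⟩)
  refine ⟨m + 1, Φ, fun σ => ?_, R, hR, ?_⟩
  · rcases Int.units_eq_one_or (sign σ) with h | h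
    · obtain ⟨g, -, hg⟩ := himg σ h fun x hx => (hcov x hx).elim
      obtain ⟨x, rfl⟩ := PresentedGroup.mk_surjective _ g
      exact ⟨x, (hP x).symm.trans hg⟩
    · obtain ⟨g, -, hg⟩ := himg ((P (mk t))⁻¹ * σ) (by rw [map_mul, map_inv, hPt, h]; rfl)
        fun x hx => (hcov x hx).elim
      obtain ⟨x, rfl⟩ := PresentedGroup.mk_surjective _ g
      exact ⟨t * x, by rw [map_mul, ← hP, ← hP]; exact by rw [hg, mul_inv_cancel_left]⟩
  · ext x
    rw [MonoidHom.mem_ker, ← hP, ← PresentedGroup.mk_eq_one_iff]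
    refine ⟨fun h => ?_, fun h => by rw [show mk x = 1 from h, map_one]⟩
    rcases split (mk x) with hx | hx
    · exact hinj hx (one_mem _) (h.trans (map_one _).symm)
    · have := hsN _ hx
      rw [map_mul, map_mul, h, hPt, map_one] at this
      exact absurd this (by decide)

theorem sym_two_gen (n : ℕ) : ∃ a b : Perm (Fin (n + 2)), Subgroup.closure ({a, b} : Set _) = ⊤ :=
  ⟨_, _, closure_cycle_adjacent_swap isCycle_finRotate support_finRotate (0 : Fin (n + 2))⟩

theorem tiny_fin (n : ℕ) (hn : n ≤ 4) :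
    (∃ rels : Finset (FreeGroup (Fin 2)), rels.card ≤ 8 ∧
      Nonempty (PresentedGroup (↑rels : Set (FreeGroup (Fin 2))) ≃* Perm (Fin n))) ∧
    ∃ rels : Finset (FreeGroup (Fin 2)), rels.card ≤ 8 ∧
      Nonempty (PresentedGroup (↑rels : Set (FreeGroup (Fin 2))) ≃* alternatingGroup (Fin n)) := by
  have hA : HasPres (alternatingGroup (Fin n)) 3 := by
    rcases Nat.lt_or_ge n 2 with h | h
    · have : Subsingleton (Fin n) := by interval_cases n <;> infer_instance
      have : Subsingleton (Perm (Fin n)) := inferInstance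
      exact (hasPres_of_subsingleton _).mono (by omega)
    · let e : Pts (n - 2) ≃ Fin n := Fintype.equivFinOfCardEq (by simp; omega)
      exact (alt_tiny (by omega)).congr e.altCongrHom
  obtain ⟨a, b, hab⟩ := alt_two_gen_fin n
  obtain ⟨R, hR, hRe⟩ := hA.two_gen hab
  refine ⟨?_, R, hR.trans (by omega), hRe⟩
  rcases Nat.lt_or_ge n 2 with h | h
  · have : Subsingleton (Fin n) := by interval_cases n <;> infer_instance
    have : Subsingleton (Perm (Fin n)) := inferInstance
    obtain ⟨R, hR, hRe⟩ := (hasPres_of_subsingleton (Perm (Fin n))).two_gen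
      (a := 1) (b := 1) (Subsingleton.elim _ _)
    exact ⟨R, hR.trans (by omega), hRe⟩
  · obtain ⟨j, rfl⟩ : ∃ j, n = j + 2 := ⟨n - 2, by omega⟩
    let e : Pts j ≃ Fin (j + 2) := Fintype.equivFinOfCardEq (by simp; omega)
    obtain ⟨a, b, hab⟩ := sym_two_gen j
    obtain ⟨R, hR, hRe⟩ := ((sym_tiny (show j ≤ 2 by omega)).congr e.permCongrHom).two_gen hab
    exact ⟨R, hR.trans (by omega), hRe⟩

end Cfsg.Agent.ShortPres.Shift
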