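import Cfsg.Agent.ShortPres.Basic

/-!
# Presentations on a generating sub-tuple, and on a given pair
-/

set_option autoImplicit false

namespace Cfsg.Agent.ShortPres.Shift

/-- A presentation on four generators with seven relations in which the last two generate. -/
def Seven (T : Type*) [Group T] : Prop :=
  ∃ f : FreeGroup (Fin 4) →* T, Function.Surjective f ∧
    (∃ R : Finset (FreeGroup (Fin 4)), R.card ≤ 7 ∧ f.ker = Subgroup.normalClosure (R : Set _)) ∧
    Subgroup.closure ({f (FreeGroup.of 2), f (FreeGroup.of 3)} : Set T) = ⊤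

theorem Seven.congr {T T' : Type*} [Group T] [Group T'] (h : Seven T) (e : T ≃* T') : Seven T' := by
  obtain ⟨f, hf, ⟨R, hR, hker⟩, hgen⟩ := h
  refine ⟨e.toMonoidHom.comp f, e.surjective.comp hf, ⟨R, hR, ?_⟩, ?_⟩
  · rw [← hker]
    ext x
    simp [MonoidHom.mem_ker]
  · rw [show ({(e.toMonoidHom.comp f) (FreeGroup.of 2), (e.toMonoidHom.comp f) (FreeGroup.of 3)} :
      Set T') = e.toMonoidHom '' {f (FreeGroup.of 2), f (FreeGroup.of 3)} by simp [Set.image_pair],
      ← MonoidHom.map_closure, hgen, ← MonoidHom.range_eq_map]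
    exact MonoidHom.range_eq_top.mpr e.surjective

/-- Generators not needed for generation can be substituted away. -/
theorem pres_subtuple {T : Type*} [Group T] {k m r : ℕ} (f : FreeGroup (Fin k) →* T)
    (R : Finset (FreeGroup (Fin k))) (hR : R.card ≤ r)
    (hker : f.ker = Subgroup.normalClosure (R : Set _)) (hf : Function.Surjective f)
    (ι : Fin m ↪ Fin k) (hgen : Subgroup.closure (Set.range fun j => f (FreeGroup.of (ι j))) = ⊤) :
    ∃ R' : Finset (FreeGroup (Fin m)), R'.card ≤ r ∧
      Nonempty (PresentedGroup (↑R' : Set (FreeGroup (Fin m))) ≃* T) := by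
  classical
  let ρ : FreeGroup (Fin m) →* T := FreeGroup.lift fun j => f (FreeGroup.of (ι j))
  have hρ : Function.Surjective ρ := by
    rw [← MonoidHom.range_eq_top, eq_top_iff, ← hgen, Subgroup.closure_le]
    rintro _ ⟨j, rfl⟩
    exact ⟨FreeGroup.of j, by simp [ρ]⟩
  let g : Fin k → FreeGroup (Fin m) :=
    Function.extend ι (fun j => FreeGroup.of j) fun i => Function.surjInv hρ (f (FreeGroup.of i))
  let θ : FreeGroup (Fin k) →* FreeGroup (Fin m) := FreeGroup.lift g
  have hθι : ∀ j, θ (FreeGroup.of (ι j)) = FreeGroup.of j := fun j => by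
    simp [θ, g, ι.injective.extend_apply]
  have hρθ : ∀ x, ρ (θ x) = f x := by
    intro x
    refine DFunLike.congr_fun (f := ρ.comp θ) (g := f) ?_ x
    apply FreeGroup.ext_hom
    intro i
    by_cases hi : ∃ j, ι j = i
    · obtain ⟨j, rfl⟩ := hi
      rw [MonoidHom.comp_apply, hθι]
      simp [ρ]
    · simp [θ, g, Function.extend_apply' _ _ _ hi, Function.surjInv_eq hρ]
  refine ⟨R.image θ, Finset.card_image_le.trans hR, ⟨?_⟩⟩
  have hk : ρ.ker = Subgroup.normalClosure (↑(R.image θ) : Set (FreeGroup (Fin m))) := by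
    refine Cfsg.Agent.ShortPres.ker_eq_normalClosure _ _ (fun x hx => ?_) fun x hx => ?_
    · obtain ⟨c, hc, rfl⟩ := Finset.mem_image.mp hx
      rw [hρθ, ← MonoidHom.mem_ker, hker]
      exact Subgroup.subset_normalClosure hc
    · set N := Subgroup.normalClosure (↑(R.image θ) : Set (FreeGroup (Fin m)))
      have hle : f.ker ≤ ((QuotientGroup.mk' N).comp θ).ker := by
        rw [hker]
        exact Subgroup.normalClosure_le_normal fun c hc => (QuotientGroup.eq_one_iff _).mpr
          (Subgroup.subset_normalClosure (Finset.mem_image_of_mem _ hc))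
      let ψ := f.liftOfSurjective hf ⟨_, hle⟩
      have hψ : ψ.comp ρ = QuotientGroup.mk' N := by
        apply FreeGroup.ext_hom
        intro j
        rw [MonoidHom.comp_apply, show ρ (FreeGroup.of j) = f (FreeGroup.of (ι j)) by simp [ρ]]
        simp [ψ, MonoidHom.liftOfRightInverse_comp_apply, hθι]
      have := DFunLike.congr_fun hψ x
      rw [MonoidHom.comp_apply, hx, map_one] at this
      exact (QuotientGroup.eq_one_iff x).mp this.symm
  exact (QuotientGroup.quotientMulEquivOfEq hk.symm).trans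
    (QuotientGroup.quotientKerEquivOfSurjective ρ hρ)

/-- Passing to two given generators. -/
theorem pres_pair {T : Type*} [Group T] {r : ℕ} (hT : Cfsg.Agent.ShortPres.HasPres T r) {a b : T}
    (hab : Subgroup.closure ({a, b} : Set T) = ⊤) :
    ∃ rels : Finset (FreeGroup (Fin 2)), rels.card ≤ r + 2 ∧
      ∃ e : PresentedGroup (↑rels : Set (FreeGroup (Fin 2))) ≃* T,
        e (PresentedGroup.of 0) = a ∧ e (PresentedGroup.of 1) = b := by
  classical
  obtain ⟨k, f, hf, R, hR, hker⟩ := hT
  let ρ : FreeGroup (Fin 2) →* T := FreeGroup.lift ![a, b]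
  have hρ : Function.Surjective ρ := by
    rw [← MonoidHom.range_eq_top, eq_top_iff, ← hab, Subgroup.closure_le]
    rintro x (rfl | rfl)
    · exact ⟨FreeGroup.of 0, by simp [ρ]⟩
    · exact ⟨FreeGroup.of 1, by simp [ρ]⟩
  let θ : FreeGroup (Fin k) →* FreeGroup (Fin 2) :=
    FreeGroup.lift fun i => Function.surjInv hρ (f (FreeGroup.of i))
  have hρθ : ∀ x, ρ (θ x) = f x := fun x => by
    refine DFunLike.congr_fun (f := ρ.comp θ) (g := f) ?_ x
    apply FreeGroup.ext_hom
    intro i
    simp [θ, Function.surjInv_eq hρ]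
  let rel : Fin 2 → FreeGroup (Fin 2) := fun i =>
    FreeGroup.of i * (θ (Function.surjInv hf (![a, b] i)))⁻¹
  let R' : Finset (FreeGroup (Fin 2)) := R.image θ ∪ Finset.univ.image rel
  have hcard : R'.card ≤ r + 2 :=
    (Finset.card_union_le _ _).trans (Nat.add_le_add (Finset.card_image_le.trans hR)
      (Finset.card_image_le.trans (by simp)))
  have hk : ρ.ker = Subgroup.normalClosure (↑R' : Set (FreeGroup (Fin 2))) := by
    refine Cfsg.Agent.ShortPres.ker_eq_normalClosure _ _ (fun x hx => ?_) fun x hx => ?_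
    · rw [Finset.mem_coe] at hx
      simp only [R', Finset.mem_union, Finset.mem_image, Finset.mem_univ, true_and] at hx
      rcases hx with ⟨c, hc, rfl⟩ | ⟨i, rfl⟩
      · rw [hρθ, ← MonoidHom.mem_ker, hker]
        exact Subgroup.subset_normalClosure hc
      · simp only [rel, map_mul, map_inv, hρθ, Function.surjInv_eq hf, mul_inv_eq_one]
        exact FreeGroup.lift_apply_of
    · set N := Subgroup.normalClosure (↑R' : Set (FreeGroup (Fin 2)))
      have hle : f.ker ≤ ((QuotientGroup.mk' N).comp θ).ker := by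
        rw [hker]
        exact Subgroup.normalClosure_le_normal fun c hc => (QuotientGroup.eq_one_iff _).mpr
          (Subgroup.subset_normalClosure (Finset.mem_union_left _ (Finset.mem_image_of_mem _ hc)))
      let ψ := f.liftOfSurjective hf ⟨_, hle⟩
      have hψ : ψ.comp ρ = QuotientGroup.mk' N := by
        apply FreeGroup.ext_hom
        intro i
        have h1 : ψ (f (Function.surjInv hf (![a, b] i))) =
            QuotientGroup.mk' N (θ (Function.surjInv hf (![a, b] i))) := by
          simp [ψ, MonoidHom.liftOfRightInverse_comp_apply]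
        have h2 : QuotientGroup.mk' N (rel i) = 1 := (QuotientGroup.eq_one_iff _).mpr
          (Subgroup.subset_normalClosure
            (Finset.mem_union_right _ (Finset.mem_image_of_mem _ (Finset.mem_univ _))))
        rw [Function.surjInv_eq hf] at h1
        rw [map_mul, map_inv, mul_inv_eq_one] at h2
        rw [MonoidHom.comp_apply, show ρ (FreeGroup.of i) = ![a, b] i from FreeGroup.lift_apply_of,
          h1, ← h2]
      have := DFunLike.congr_fun hψ x
      rw [MonoidHom.comp_apply, hx, map_one] at this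
      exact (QuotientGroup.eq_one_iff x).mp this.symm
  refine ⟨R', hcard, (QuotientGroup.quotientMulEquivOfEq hk.symm).trans
    (QuotientGroup.quotientKerEquivOfSurjective ρ hρ), ?_, ?_⟩
  · exact FreeGroup.lift_apply_of (f := ![a, b]) (x := 0)
  · exact FreeGroup.lift_apply_of (f := ![a, b]) (x := 1)

theorem Seven.hasPres {T : Type*} [Group T] (h : Seven T) : Cfsg.Agent.ShortPres.HasPres T 7 := by
  obtain ⟨f, hf, ⟨R, hR, hker⟩, -⟩ := h
  exact ⟨4, f, hf, R, hR, hker⟩

theorem Seven.two {T : Type*} [Group T] (h : Seven T) :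
    ∃ R : Finset (FreeGroup (Fin 2)), R.card ≤ 7 ∧
      Nonempty (PresentedGroup (↑R : Set (FreeGroup (Fin 2))) ≃* T) := by
  obtain ⟨f, hf, ⟨R, hR, hker⟩, hgen⟩ := h
  refine pres_subtuple f R hR hker hf ⟨![2, 3], by decide⟩ (eq_top_iff.mpr ?_)
  rw [← hgen]
  refine Subgroup.closure_mono ?_
  rintro x (rfl | rfl)
  · exact ⟨0, rfl⟩
  · exact ⟨1, rfl⟩

theorem Seven.three {T : Type*} [Group T] (h : Seven T) :
    ∃ R : Finset (FreeGroup (Fin 3)), R.card ≤ 7 ∧
      Nonempty (PresentedGroup (↑R : Set (FreeGroup (Fin 3))) ≃* T) := by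
  obtain ⟨f, hf, ⟨R, hR, hker⟩, hgen⟩ := h
  refine pres_subtuple f R hR hker hf ⟨![0, 2, 3], by decide⟩ (eq_top_iff.mpr ?_)
  rw [← hgen]
  refine Subgroup.closure_mono ?_
  rintro x (rfl | rfl)
  · exact ⟨1, rfl⟩
  · exact ⟨2, rfl⟩

end Cfsg.Agent.ShortPres.Shift
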