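import Cfsg.Agent.ShortPres.Shift.Words
import Cfsg.Agent.ShortPres.Shift.Elim

/-!
# Seven relations for the symmetric and alternating groups
-/

set_option autoImplicit false

namespace Cfsg.Agent.ShortPres.Shift

open Equiv Equiv.Perm Cfsg.Agent.AltMult Cfsg.Agent.ShortPres

variable (p k sg : ℕ) [Fact p.Prime] (r : (ZMod p)ˣ)

/-- The points permuted by the long cycle compared with its shift. -/
def gEmb : ZMod p ↪ Pts (p + k) :=
  ⟨fun x => if x.val = 0 then Sum.inl 1 else Sum.inr (pt p k (x.val - 1)), fun x y h => by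
    apply ZMod.val_injective p
    have hx := x.val_lt
    have hy := y.val_lt
    by_cases h1 : x.val = 0 <;> by_cases h2 : y.val = 0 <;> simp [h1, h2] at h
    · omega
    · have := congrArg Fin.val h
      rw [pt_val p k (by omega), pt_val p k (by omega)] at this
      omega⟩

theorem gEmb_zero : gEmb p k 0 = Sum.inl 1 := if_pos ZMod.val_zero

theorem gEmb_succ {i : ℕ} (h : i + 1 < p) : gEmb p k ((i + 1 : ℕ) : ZMod p) = Sum.inr (pt p k i) := by
  show (if _ then _ else _) = _
  rw [ZMod.val_natCast_of_lt h, if_neg (by omega), Nat.add_sub_cancel]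

theorem gEmb_u (x : ZMod p) : gEmb p k x ≠ Sum.inl 0 := by
  show (if _ then _ else _) ≠ _
  split_ifs <;> simp

/-- The cycle. -/
noncomputable def sigmaCycle : Perm (Pts (p + k)) := permMap (gEmb p k) (addOne p)

theorem cycle_gen {i : ℕ} (hi : i + 1 < p) :
    C (pt p k i) ∈ Subgroup.closure ({sigmaCycle p k, C (pt p k 0)} : Set (Perm (Pts (p + k)))) := by
  set K := Subgroup.closure ({sigmaCycle p k, C (pt p k 0)} : Set (Perm (Pts (p + k))))
  have hσ : sigmaCycle p k ∈ K := Subgroup.subset_closure (Or.inl rfl)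
  have hC : C (pt p k 0) ∈ K := Subgroup.subset_closure (Or.inr rfl)
  have hC0 : C (pt p k 0) = cyc (Sum.inl 0) (gEmb p k 0) (gEmb p k ((0 + 1 : ℕ) : ZMod p)) := by
    rw [gEmb_zero, gEmb_succ p k (by omega), C]
  have hfix : ∀ n : ℕ, (sigmaCycle p k ^ n) (Sum.inl 0) = Sum.inl 0 := fun n => by
    rw [sigmaCycle, ← map_pow]
    exact permMap_of_notMem _ _ fun ⟨x, hx⟩ => gEmb_u p k x hx
  have hD : ∀ n : ℕ, n + 2 < p →
      cyc (Sum.inl 0) (Sum.inr (pt p k n)) (Sum.inr (pt p k (n + 1))) ∈ K := by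
    intro n hn
    have := mul_mem (mul_mem (pow_mem hσ (n + 1)) hC) (inv_mem (pow_mem hσ (n + 1)))
    rw [hC0, conj_cyc, hfix, sigmaCycle, ← map_pow, permMap_apply, permMap_apply, addOne_pow,
      addOne_pow, add_zero, gEmb_succ p k (by omega), ← Nat.cast_add,
      show n + 1 + (0 + 1) = (n + 1) + 1 from rfl, gEmb_succ p k (by omega)] at this
    exact this
  induction i with
  | zero => exact hC
  | succ i ih =>
    have hc := ih (by omega)
    have := inv_mem (mul_mem (mul_mem hc (hD i (by omega))) (inv_mem hc))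
    rw [C, conj_cyc, cyc_apply_left (by simp) (by simp), cyc_apply_right (by simp) (by simp),
      cyc_apply_of_ne (by simp) (by simp) (by
        simp only [ne_eq, Sum.inr.injEq]
        intro e
        have := congrArg Fin.val e
        rw [pt_val p k (by omega), pt_val p k (by omega)] at this
        omega),
      cyc_inv (by simp) (by simp) (by simp)] at this
    exact this

/-- The choice away from the smallest symmetric case. -/
noncomputable def mainChoice (hr : ∀ x : ZMod p, x ≠ 0 → ∃ j : ℕ, x = (r : ZMod p) ^ j) (hp : 3 ≤ p)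
    (hsg : sg ≤ 1) : Choice p k sg r where
  T0 := fb ^ (sg + 1)
  n0 := p - 1
  σ1 := sigmaCycle p k
  n1 := p
  hT0 := pow_mem (show fb ∈ Subgroup.closure ({fa, fb} : Set (FreeGroup (Fin 4))) from
    Subgroup.subset_closure (Or.inr rfl)) _
  hT0s := by
    rw [map_pow, Φ0_b, map_pow, sign_pB p k sg hr hp]
    interval_cases sg <;> decide
  hn0 f _ hb := by rw [map_pow, ← pow_mul, mul_comm, pow_mul, hb, one_pow]
  hn1 := by rw [sigmaCycle, ← map_pow, addOne_pow_p, map_one]
  hcop := by
    obtain ⟨m, hm⟩ : ∃ m, p = m + 1 := ⟨p - 1, by omega⟩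
    rw [hm, Nat.add_sub_cancel]
    exact (Nat.coprime_self_add_right).mpr (Nat.coprime_one_right m)
  hσs := by
    rw [sigmaCycle, sign_permMap, sign_addOne p ((Fact.out : p.Prime).odd_of_ne_two (by omega))]
  hσf x hx := permMap_of_notMem _ _ fun ⟨y, hy⟩ => by
    change (if _ then _ else _) = _ at hy
    have := y.val_lt
    split_ifs at hy
    have := congrArg Fin.val (Sum.inr_injective hy)
    rw [pt_val p k (by omega)] at this
    omega
  hgen i hi := cycle_gen p k hi

/-- The choice for the smallest symmetric case. -/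
noncomputable def smallChoice (h3 : p = 3) : Choice p k sg r where
  T0 := fa
  n0 := p
  σ1 := pm 1 (swap (pt p k 0) (pt p k 1))
  n1 := 2
  hT0 := Subgroup.subset_closure (Or.inl rfl)
  hT0s := by rw [Φ0_a, sign_pA p k (h3 ▸ by decide)]
  hn0 f ha _ := ha
  hn1 := by rw [pm_pow, pow_two, swap_mul_self, pm_even ⟨1, rfl⟩, pm_zero_one]
  hcop := by rw [h3]; decide
  hσs := by
    rw [sign_pm, sign_swap, pow_one]
    · decide
    · intro e
      have := congrArg Fin.val e
      rw [pt_val p k (by omega), pt_val p k (by omega)] at this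
      omega
  hσf x hx := by
    rw [pm_inr, swap_apply_of_ne_of_ne] <;>
    · intro e
      have := congrArg Fin.val e
      rw [pt_val p k (by omega)] at this
      omega
  hgen i hi := by
    obtain rfl | rfl : i = 0 ∨ i = 1 := by omega
    · exact Subgroup.subset_closure (Or.inr rfl)
    · have hσ : pm 1 (swap (pt p k 0) (pt p k 1)) ∈ Subgroup.closure
          ({pm 1 (swap (pt p k 0) (pt p k 1)), C (pt p k 0)} : Set (Perm (Pts (p + k)))) :=
        Subgroup.subset_closure (Or.inl rfl)
      have := inv_mem (mul_mem (mul_mem hσ (Subgroup.subset_closure (Or.inr rfl) :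
        C (pt p k 0) ∈ _)) (inv_mem hσ))
      rw [pm_C, swap_apply_left, pow_one, zpow_neg_one, inv_inv] at this
      exact this

theorem gen_range {σ : Perm (Pts (p + k))} (hσ : sign σ = 1) :
    σ ∈ Subgroup.closure ({pZ p k, pU p k sg} : Set (Perm (Pts (p + k)))) := by
  set M := Subgroup.closure ({pZ p k, pU p k sg} : Set (Perm (Pts (p + k))))
  have hCm : ∀ i : ℕ, C (pt p k i) ∈ M := by
    intro i
    induction i with
    | zero => exact Subgroup.subset_closure (Or.inl rfl)
    | succ i ih =>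
      have hU : pU p k sg ∈ M := Subgroup.subset_closure (Or.inr rfl)
      have := zpow_mem (mul_mem (mul_mem hU ih) (inv_mem hU)) ((-1 : ℤ) ^ (sg + k))
      rwa [pU_C, (isSign_negOne _).zpow_zpow] at this
  let f : Fin (p + k) ↪ Pts (p + k) := ⟨Sum.inr, Sum.inr_injective⟩
  obtain ⟨-, -, h⟩ := carm (MonoidHom.id _) (u := (Sum.inl 0 : Pts (p + k))) (v := Sum.inl 1)
    (by simp) f (fun x => by simp [f]) (fun x => by simp [f]) C (fun x => rfl) C_cube
    fun x y hxy => C_sq hxy
  obtain ⟨g, hg, rfl⟩ := h σ hσ fun t ht => absurd (by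
    rcases t with i | x
    · exact ⟨Sum.inl i, by fin_cases i <;> rfl⟩
    · exact ⟨Sum.inr x, rfl⟩) ht
  exact (Subgroup.closure_le M).mpr (by rintro _ ⟨x, rfl⟩; rw [← pt_self p k x]; exact hCm _) hg

theorem core (hp : 3 ≤ p) (hk : k < p) (hsg : sg ≤ 1) :
    ∃ f : FreeGroup (Fin 4) →* Perm (Pts (p + k)),
      f.range = (if sg = 1 then ⊤ else alternatingGroup (Pts (p + k))) ∧
      (∃ R : Finset (FreeGroup (Fin 4)), R.card ≤ 7 ∧ f.ker = Subgroup.normalClosure (R : Set _)) ∧
      Subgroup.closure ({f fz, f fU} : Set (Perm (Pts (p + k)))) = f.range ∧ f fz = pZ p k := by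
  classical
  obtain ⟨r, hr0⟩ := IsCyclic.exists_generator (α := (ZMod p)ˣ)
  have hr : ∀ x : ZMod p, x ≠ 0 → ∃ j : ℕ, x = (r : ZMod p) ^ j := by
    intro x hx
    obtain ⟨j, hj⟩ := mem_powers_iff_mem_zpowers.mpr (hr0 (Units.mk0 x hx))
    refine ⟨j, ?_⟩
    have := congrArg Units.val hj
    simpa using this.symm
  have h2 : (2 : ZMod p) ≠ 0 := by
    intro e
    have : ((2 : ℕ) : ZMod p) = 0 := by exact_mod_cast e
    have := Nat.le_of_dvd two_pos ((ZMod.natCast_eq_zero_iff _ _).mp this)
    omega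
  have hr1 : (r : ZMod p) ≠ 1 := by
    intro h
    obtain ⟨j, hj⟩ := hr 2 h2
    rw [h, one_pow] at hj
    exact one_ne_zero (show (1 : ZMod p) = 0 by linear_combination hj)
  have hr2 : 5 ≤ p → (r : ZMod p) ^ 2 ≠ 1 := by
    intro h5 h
    have hcl : ∀ x : ZMod p, x ≠ 0 → x = 1 ∨ x = r := fun x hx => by
      obtain ⟨j, rfl⟩ := hr x hx
      rcases Nat.even_or_odd' j with ⟨m, rfl | rfl⟩
      · left; rw [pow_mul, h, one_pow]
      · right; rw [pow_succ, pow_mul, h, one_pow, one_mul]
    have hne : ∀ a b : ℕ, a < p → b < p → a ≠ b → (a : ZMod p) ≠ b := fun a b ha hb hab e => hab (by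
      have := congrArg ZMod.val e
      rwa [ZMod.val_natCast_of_lt ha, ZMod.val_natCast_of_lt hb] at this)
    rcases hcl (2 : ℕ) (by simpa using h2) with e | e
    · exact hne 2 1 (by omega) (by omega) (by omega) (by simpa using e)
    rcases hcl (3 : ℕ) (by simpa using hne 3 0 (by omega) (by omega) (by omega)) with e' | e'
    · exact hne 3 1 (by omega) (by omega) (by omega) (by simpa using e')
    · exact hne 3 2 (by omega) (by omega) (by omega) (e'.trans e.symm)
  have hodd : Odd p := (Fact.out : p.Prime).odd_of_ne_two (by omega)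
  let Ch : Choice p k sg r :=
    if h : sg = 1 ∧ p = 3 then smallChoice p k sg r h.2 else mainChoice p k sg r hr hp hsg
  obtain ⟨R, hR, hrel, hrest⟩ := exists_setup p k sg r hp hk hr hsg Ch
  set Φ := PresentedGroup.toGroup hrel
  set m := PresentedGroup.mk (↑R : Set (FreeGroup (Fin 4)))
  obtain ⟨S, G, ea, eb, ez, eU, er, et, W', hW', eW⟩ := hrest
  have hΦm : ∀ x, Φ (m x) = Φ0 p k sg r x := fun x => by
    refine DFunLike.congr_fun (f := Φ.comp m) (g := Φ0 p k sg r) ?_ x
    apply FreeGroup.ext_hom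
    intro i
    rw [MonoidHom.comp_apply, show m (FreeGroup.of i) = PresentedGroup.of i from rfl,
      show Φ (PresentedGroup.of i) = _ from PresentedGroup.toGroup.of hrel]
    simp [Φ0]
  have hQ : Subgroup.closure ({S.a, S.b, S.z, S.U} : Set _) = ⊤ := by
    rw [eq_top_iff, ← PresentedGroup.closure_range_of, Subgroup.closure_le]
    rintro _ ⟨i, rfl⟩
    refine Subgroup.subset_closure ?_
    rw [ea, eb, ez, eU]
    fin_cases i <;> simp [m, PresentedGroup.of]
  have hcov : ∀ t : Pts (p + k), t = Sum.inl 0 ∨ t = Sum.inl 1 ∨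
      ∃ i < p + k, t = Sum.inr (pt p k i) := by
    rintro (i | x)
    · fin_cases i <;> simp
    · exact Or.inr (Or.inr ⟨x.val, x.isLt, by rw [pt_self]⟩)
  have ht0 := G.t0_mem.1
  have hfin : Function.Injective Φ ∧
      Φ.range = (if sg = 1 then ⊤ else alternatingGroup (Pts (p + k))) := by
    rcases (show sg = 0 ∨ sg = 1 by omega) with rfl | rfl
    · have hb : S.b ∈ win p S.a S.z := by
        rw [et] at ht0
        simp only [Ch, zero_ne_one, false_and, dite_false, mainChoice, zero_add,
          pow_one] at ht0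
        rwa [eb]
      have ha : S.a ∈ win p S.a S.z :=
        Glue.a_mem_of_b_pow (e := 1) (by rwa [pow_one]) (by rw [pow_one, er]; exact hr1)
      have hWd : G.Wd ∈ win p S.a S.z := by rw [eW, pow_zero, one_mul]; exact hW'
      obtain ⟨h1, h2⟩ := G.alt_finish hQ hcov ha hb hWd
      refine ⟨h1, ?_⟩
      rw [if_neg zero_ne_one]
      ext σ
      rw [h2, mem_alternatingGroup]
    · have hab : S.a ∈ win p S.a S.z ∧ S.b * S.b ∈ win p S.a S.z := by
        rw [et] at ht0
        by_cases h3 : p = 3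
        · rw [show Ch = smallChoice p k 1 r h3 from dif_pos ⟨rfl, h3⟩] at ht0
          change m fa ∈ _ at ht0
          refine ⟨?_, ?_⟩
          · rw [← ea] at ht0
            exact ht0
          have := S.bp_eq
          subst h3
          rw [← pow_two]
          exact this ▸ one_mem _
        · simp only [Ch, h3, and_false, dite_false, mainChoice, map_pow] at ht0
          rw [← eb] at ht0
          refine ⟨Glue.a_mem_of_b_pow (e := 2) ht0 ?_, by rw [← pow_two]; exact ht0⟩
          rw [er]
          refine hr2 ?_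
          by_contra h5
          have : p = 4 := by omega
          exact absurd (Fact.out : p.Prime) (by rw [this]; norm_num)
      have hbs : sign (Φ S.b) = -1 := by
        rw [eb, hΦm, Φ0_b, sign_pB p k 1 hr hp, pow_one]
      have hb := G.sym_finish hQ hcov hab.1 hab.2 hbs ⟨W', hW', by rw [eW, pow_one]⟩
      exact ⟨hb.1, by rw [if_pos rfl]; exact MonoidHom.range_eq_top.mpr hb.2⟩
  have hrange : (Φ.comp m).range = Φ.range := by
    rw [MonoidHom.range_comp, MonoidHom.range_eq_top.mpr (PresentedGroup.mk_surjective _),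
      ← MonoidHom.range_eq_map]
  refine ⟨Φ.comp m, hrange.trans hfin.2, ⟨R, hR, ?_⟩, ?_, (hΦm fz).trans (Φ0_z p k sg r)⟩
  · ext x
    rw [MonoidHom.mem_ker, MonoidHom.comp_apply, map_eq_one_iff Φ hfin.1]
    exact PresentedGroup.mk_eq_one_iff
  · refine le_antisymm ((Subgroup.closure_le _).mpr ?_) fun σ hσ => ?_
    · rintro x (rfl | rfl) <;> exact ⟨_, rfl⟩
    · simp only [MonoidHom.comp_apply, hΦm, Φ0_z, Φ0_U]
      rw [hrange, hfin.2] at hσ
      by_cases h1 : sg = 1
      · rcases Int.units_eq_one_or (sign σ) with h | h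
        · exact gen_range p k sg h
        · have hU : pU p k sg ∈ Subgroup.closure ({pZ p k, pU p k sg} : Set (Perm (Pts (p + k)))) :=
            Subgroup.subset_closure (Or.inr rfl)
          have h' : sign ((pU p k sg)⁻¹ * σ) = 1 := by
            rw [map_mul, map_inv, sign_pU p k sg hodd, h, h1]
            decide
          simpa using mul_mem hU (gen_range p k sg h')
      · rw [if_neg h1] at hσ
        exact gen_range p k sg (mem_alternatingGroup.mp hσ)

omit [Fact p.Prime] in
theorem seven_pts (hp' : p.Prime) (hp : 3 ≤ p) (hk : k < p) :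
    Seven (Perm (Pts (p + k))) ∧ Seven (alternatingGroup (Pts (p + k))) := by
  have : Fact p.Prime := ⟨hp'⟩
  constructor
  · obtain ⟨f, hf, hR, hgen, -⟩ := core p k 1 hp hk le_rfl
    rw [if_pos rfl] at hf
    exact ⟨f, MonoidHom.range_eq_top.mp hf, hR, hgen.trans hf⟩
  · obtain ⟨f, hf, ⟨R, hR, hker⟩, hgen, -⟩ := core p k 0 hp hk zero_le_one
    rw [if_neg zero_ne_one] at hf
    let g : FreeGroup (Fin 4) →* alternatingGroup (Pts (p + k)) :=
      f.codRestrict (alternatingGroup (Pts (p + k))) fun x => by rw [← hf]; exact ⟨x, rfl⟩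
    refine ⟨g, fun σ => ?_, ⟨R, hR, ?_⟩, ?_⟩
    · obtain ⟨x, hx⟩ := (by rw [hf]; exact σ.2 : (σ : Perm (Pts (p + k))) ∈ f.range)
      exact ⟨x, Subtype.ext hx⟩
    · rw [← hker]
      ext x
      simp [MonoidHom.mem_ker, g]
    · refine Subgroup.map_injective (alternatingGroup (Pts (p + k))).subtype_injective ?_
      rw [MonoidHom.map_closure, Set.image_pair, ← MonoidHom.range_eq_map, Subgroup.range_subtype]
      exact hgen.trans hf

theorem exists_prime_param (n : ℕ) (hn : 5 ≤ n) :
    ∃ p k : ℕ, p.Prime ∧ 3 ≤ p ∧ k < p ∧ p + k + 2 = n := by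
  rcases Nat.lt_or_ge n 7 with h | h
  · exact ⟨3, n - 5, Nat.prime_three, le_rfl, by omega, by omega⟩
  · obtain ⟨p, hp, h1, h2⟩ := Nat.exists_prime_lt_and_le_two_mul ((n - 1) / 2) (by omega)
    refine ⟨p, n - p - 2, hp, by omega, ?_, ?_⟩
    · omega
    · rcases hp.eq_two_or_odd with h3 | h3 <;> omega

theorem seven_fin (n : ℕ) (hn : 5 ≤ n) :
    Seven (Perm (Fin n)) ∧ Seven (alternatingGroup (Fin n)) := by
  obtain ⟨p, k, hp', hp, hk, he⟩ := exists_prime_param n hn
  obtain ⟨hS, hA⟩ := seven_pts p k hp' hp hk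
  let e : Pts (p + k) ≃ Fin n := Fintype.equivFinOfCardEq (by simp; omega)
  exact ⟨hS.congr e.permCongrHom, hA.congr e.altCongrHom⟩

/-- Seven relations, with the third generator the cycle of the first three points. -/
theorem seven_alt_cycle (n : ℕ) (hn : 5 ≤ n) (a b c : Fin n) (hab : a ≠ b) (hac : a ≠ c)
    (hbc : b ≠ c) :
    ∃ f : FreeGroup (Fin 4) →* alternatingGroup (Fin n), Function.Surjective f ∧
      (∃ R : Finset (FreeGroup (Fin 4)), R.card ≤ 7 ∧ f.ker = Subgroup.normalClosure (R : Set _)) ∧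
      (f (FreeGroup.of 2) : Perm (Fin n)) = cyc a b c := by
  classical
  obtain ⟨p, k, hp', hp, hk, he⟩ := exists_prime_param n hn
  have : Fact p.Prime := ⟨hp'⟩
  obtain ⟨f, hf, ⟨R, hR, hker⟩, -, hz⟩ := core p k 0 hp hk zero_le_one
  rw [if_neg zero_ne_one] at hf
  let e0 : Pts (p + k) ≃ Fin n := Fintype.equivFinOfCardEq (by simp; omega)
  let u0 := e0 (Sum.inl 0)
  let v0 := e0 (Sum.inl 1)
  let w0 := e0 (Sum.inr (pt p k 0))
  let s : Perm (Fin n) := swap u0 a
  let t : Perm (Fin n) := swap (s v0) b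
  let r : Perm (Fin n) := swap (t (s w0)) c
  have n1 : u0 ≠ v0 := e0.injective.ne (by simp)
  have n2 : u0 ≠ w0 := e0.injective.ne (by simp)
  have n3 : v0 ≠ w0 := e0.injective.ne (by simp)
  have hs : s u0 = a := swap_apply_left _ _
  have h1 : s v0 ≠ a := hs ▸ s.injective.ne n1.symm
  have hta : t a = a := swap_apply_of_ne_of_ne h1.symm hab
  have htb : t (s v0) = b := swap_apply_left _ _
  have h2 : t (s w0) ≠ a := fun h => n2 (s.injective (t.injective ((by rw [hs, hta, h] :
    t (s u0) = t (s w0)))))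
  have h3 : t (s w0) ≠ b := fun h => n3 (s.injective (t.injective (htb.trans h.symm)))
  let e : Pts (p + k) ≃ Fin n := e0.trans (s.trans (t.trans r))
  have ea : e (Sum.inl 0) = a := by
    show r (t (s u0)) = a
    rw [hs, hta]
    exact swap_apply_of_ne_of_ne h2.symm hac
  have eb : e (Sum.inl 1) = b := by
    show r (t (s v0)) = b
    rw [htb]
    exact swap_apply_of_ne_of_ne h3.symm hbc
  have ec : e (Sum.inr (pt p k 0)) = c := swap_apply_left _ _
  let F : FreeGroup (Fin 4) →* alternatingGroup (Fin n) :=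
    (e.permCongrHom.toMonoidHom.comp f).codRestrict (alternatingGroup (Fin n)) fun x =>
      mem_alternatingGroup.mpr (by
        show sign (e.permCongr (f x)) = 1
        rw [sign_permCongr]
        exact mem_alternatingGroup.mp (hf ▸ ⟨x, rfl⟩))
  refine ⟨F, fun σ => ?_, ⟨R, hR, ?_⟩, ?_⟩
  · obtain ⟨x, hx⟩ : e.symm.permCongr σ.1 ∈ f.range := by
      rw [hf]
      exact mem_alternatingGroup.mpr ((sign_permCongr _ _).trans (mem_alternatingGroup.mp σ.2))
    refine ⟨x, Subtype.ext ?_⟩
    show e.permCongr (f x) = σ.1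
    rw [hx]
    ext i
    simp [Equiv.permCongr_apply]
  · rw [← hker]
    ext x
    rw [MonoidHom.mem_ker, MonoidHom.mem_ker, Subtype.ext_iff]
    exact map_eq_one_iff e.permCongrHom.toMonoidHom e.permCongrHom.injective
  · show e.permCongrHom (f (FreeGroup.of 2)) = cyc a b c
    rw [hz, pZ, C, cyc, cyc, map_mul]
    have h : ∀ x y, e.permCongrHom (swap x y) = swap (e x) (e y) := fun x y =>
      Equiv.symm_trans_swap_trans x y e
    rw [h, h, ea, eb, ec]

end Cfsg.Agent.ShortPres.Shift
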