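import Cfsg.Agent.ShortPres.AltGlue

/-!
# Exponents `±1` on Carmichael generators
-/

set_option autoImplicit false

namespace Cfsg.Agent.ShortPres.Shift

variable {Q : Type*} [Group Q]

/-- An exponent `1` or `-1`. -/
def IsSign (δ : ℤ) : Prop := δ = 1 ∨ δ = -1

theorem IsSign.mul_self {δ : ℤ} (h : IsSign δ) : δ * δ = 1 := by
  rcases h with rfl | rfl <;> norm_num

theorem IsSign.pow {δ : ℤ} (h : IsSign δ) (n : ℕ) : IsSign (δ ^ n) := by
  rcases h with rfl | rfl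
  · exact Or.inl (one_pow n)
  · exact neg_one_pow_eq_or ℤ n

theorem IsSign.mul {δ η : ℤ} (h : IsSign δ) (h' : IsSign η) : IsSign (δ * η) := by
  rcases h with rfl | rfl <;> rcases h' with rfl | rfl <;> simp [IsSign]

theorem IsSign.zpow_zpow {δ : ℤ} (h : IsSign δ) (x : Q) : (x ^ δ) ^ δ = x := by
  rw [← zpow_mul, h.mul_self, zpow_one]

theorem IsSign.sq_zpow {δ : ℤ} (hδ : IsSign δ) {x y : Q} (h : (x * y) ^ 2 = 1) :
    (x ^ δ * y ^ δ) ^ 2 = 1 := by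
  rcases hδ with rfl | rfl
  · simpa using h
  · rw [zpow_neg_one, zpow_neg_one, ← mul_inv_rev, inv_pow, inv_eq_one]
    exact sq_flip h

theorem IsSign.pow_three {δ : ℤ} (hδ : IsSign δ) {x : Q} (h : x ^ 3 = 1) : (x ^ δ) ^ 3 = 1 := by
  rcases hδ with rfl | rfl <;> simp [h]

theorem conj_zpow' (g x : Q) (n : ℤ) : g * x ^ n * g⁻¹ = (g * x * g⁻¹) ^ n :=
  conj_zpow.symm

/-- A relation `(z w)² = z³` of Carmichael generators reversed. -/
theorem sq_cube_inv {x y : Q} (h : (x⁻¹ * y⁻¹) ^ 2 = (x⁻¹) ^ 3) : (x * y) ^ 2 = x ^ 3 := by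
  have h1 : (y * x) ^ 2 = x ^ 3 := by
    rw [← inv_inj, ← inv_pow, mul_inv_rev, h, inv_pow]
  rw [show (x * y) ^ 2 = x * (y * x) ^ 2 * x⁻¹ by simp [pow_two, mul_assoc], h1]
  group

/-- Two elements with `(x y)² = (y x)² = x³ = y³` central in what they generate have `x⁶ = 1`. -/
theorem cube_sq {x y ζ : Q} (hx : x ^ 3 = ζ) (hy : y ^ 3 = ζ) (h1 : (x * y) ^ 2 = ζ)
    (h2 : (y * x) ^ 2 = ζ) : ζ * ζ = 1 := by
  have hcx : Commute ζ x := hx ▸ (Commute.self_pow x 3).symm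
  have hcy : Commute ζ y := hy ▸ (Commute.self_pow y 3).symm
  have key : ∀ {a b : Q}, a ^ 3 = ζ → b ^ 3 = ζ → (a * b) ^ 2 = ζ → Commute ζ a → Commute ζ b →
      (a⁻¹ * b) ^ 3 = ζ := by
    intro a b ha hb hab ca cb
    have e1 : b * a * b = a⁻¹ * ζ := by rw [← hab]; simp [pow_two, mul_assoc]
    have e2 : (b ^ 2)⁻¹ = b * ζ⁻¹ := by
      rw [← hb]
      group
    have e3 : b * a * b⁻¹ = a⁻¹ * b := by
      calc b * a * b⁻¹ = b * a * b * (b ^ 2)⁻¹ := by group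
        _ = a⁻¹ * (ζ * b) * ζ⁻¹ := by rw [e1, e2]; group
        _ = a⁻¹ * b := by rw [cb.eq]; group
    rw [← e3, conj_pow, ha, ← cb.eq, mul_inv_cancel_right]
  have k1 := key hx hy h1 hcx hcy
  have k2 := key hy hx h2 hcy hcx
  have : ζ⁻¹ = ζ := by
    conv_lhs => rw [← k1]
    rw [← inv_pow, mul_inv_rev, inv_inv, k2]
  calc ζ * ζ = ζ * ζ⁻¹ := by rw [this]
    _ = 1 := mul_inv_cancel ζ

/-- Normalising maps are determined by an injective image. -/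
theorem eq_of_injOn {H : Type*} [Group H] (Φ : Q →* H) {N : Subgroup Q}
    (hinj : Set.InjOn Φ (N : Set Q)) {x y : Q} (hx : x ∈ N) (hy : y ∈ N) (h : Φ x = Φ y) : x = y :=
  hinj hx hy h

theorem conj_mem_of_normalizer {N : Subgroup Q} {g x : Q}
    (hg : g ∈ Subgroup.normalizer (N : Set Q)) (hx : x ∈ N) : g * x * g⁻¹ ∈ N :=
  (Subgroup.mem_normalizer_iff.mp hg x).mp hx

theorem conj_mem_of_normalizer' {N : Subgroup Q} {g x : Q}
    (hg : g ∈ Subgroup.normalizer (N : Set Q)) (hx : x ∈ N) : g⁻¹ * x * g ∈ N := by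
  simpa using conj_mem_of_normalizer (inv_mem hg) hx

end Cfsg.Agent.ShortPres.Shift
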