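import Cfsg.Agent.ShortPres.Shift.Carm
import Cfsg.Agent.ShortPres.Shift.Signs

/-!
# The window: seven relations, first consequences

`a`, `b` satisfy the relations of the affine group of the prime field, `z` is a Carmichael
generator of the window, and `U` shifts the window.
-/

set_option autoImplicit false

namespace Cfsg.Agent.ShortPres.Shift

open Equiv Equiv.Perm Cfsg.Agent.AltMult Cfsg.Agent.ShortPres

variable {Q : Type*} [Group Q] {β : Type*} [Fintype β] [DecidableEq β] {p : ℕ} [Fact p.Prime]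

/-- Powers of `a` indexed by the prime field. -/
def tr (a : Q) (x : ZMod p) : Q := a ^ x.val

/-- The window generators. -/
def wgen (a z : Q) (x : ZMod p) : Q := tr a x * z * (tr a x)⁻¹

/-- The window subgroup. -/
def win (p : ℕ) [Fact p.Prime] (a z : Q) : Subgroup Q :=
  Subgroup.closure (Set.range (wgen (p := p) a z))

/-- The data: five of the relations and the images in the permutation group. -/
structure Setup (p : ℕ) [Fact p.Prime] (Φ : Q →* Perm β) (u v : β) (q : ℕ → β) (L : ℕ) where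
  a : Q
  b : Q
  z : Q
  U : Q
  r : ZMod p
  s : ℕ
  ε : ℤ
  δ : ℤ
  hε : IsSign ε
  hδ : IsSign δ
  hr : ∀ x : ZMod p, x ≠ 0 → ∃ j : ℕ, x = r ^ j
  hs0 : 1 ≤ s
  hs : (s : ZMod p) * (1 - r) = 1
  huv : u ≠ v
  hqu : ∀ i, q i ≠ u
  hqv : ∀ i, q i ≠ v
  hqinj : ∀ i j, i < L → j < L → q i = q j → i = j
  hper : ∀ i, q (i + L) = q i
  hpL : p ≤ L
  rel1 : a ^ p = b ^ (p - 1)
  rel2 : b * a ^ s * b⁻¹ = a ^ (s - 1)
  rel3 : b * z * b⁻¹ = z ^ ε
  rel4 : (z * (a * z * a⁻¹)) ^ 2 = z ^ 3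
  rel6 : U * z * U⁻¹ = ((a * z * a⁻¹) ^ (4 : ℕ)) ^ δ
  hΦz : Φ z = cyc u v (q 0)
  hΦa : ∀ x : ZMod p, Φ a * cyc u v (q x.val) * (Φ a)⁻¹ = cyc u v (q (x + 1).val)
  hΦU : ∀ i, (Φ U * cyc u v (q i) * (Φ U)⁻¹) ^ δ = cyc u v (q (i + 1))

namespace Setup

variable {Φ : Q →* Perm β} {u v : β} {q : ℕ → β} {L : ℕ} (S : Setup p Φ u v q L)

local notation "E" => wgen (p := p) S.a S.z
local notation "A" => tr (p := p) S.a

theorem one_lt : 1 < p := (Fact.out : p.Prime).one_lt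

theorem ap_eq : S.a ^ p = 1 := by
  have hc : Commute S.b (S.a ^ p) := S.rel1 ▸ Commute.self_pow S.b (p - 1)
  have h : (S.b * S.a ^ S.s * S.b⁻¹) ^ p = (S.a ^ (S.s - 1)) ^ p := by rw [S.rel2]
  rw [conj_pow, ← pow_mul, ← pow_mul, mul_comm S.s, mul_comm (S.s - 1), pow_mul, pow_mul,
    (hc.pow_right S.s).eq, mul_inv_cancel_right] at h
  obtain ⟨t, ht⟩ : ∃ t, S.s = t + 1 := ⟨S.s - 1, by have := S.hs0; omega⟩
  rw [ht, Nat.add_sub_cancel, pow_succ] at h
  exact mul_eq_left.mp h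

theorem bp_eq : S.b ^ (p - 1) = 1 := S.rel1 ▸ S.ap_eq

theorem pow_mod (n : ℕ) : S.a ^ n = A (n : ZMod p) := by
  rw [tr, ZMod.val_natCast]
  conv_lhs => rw [← Nat.mod_add_div n p, pow_add, pow_mul, S.ap_eq, one_pow, mul_one]

theorem tr_add (x y : ZMod p) : A (x + y) = A x * A y := by
  rw [show A x * A y = S.a ^ (x.val + y.val) from (pow_add _ _ _).symm, S.pow_mod]
  congr 1
  simp

theorem tr_zero : A (0 : ZMod p) = 1 := by simp [tr]

theorem tr_one : A (1 : ZMod p) = S.a := by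
  rw [tr, ZMod.val_one, pow_one]

theorem tr_mul (x : ZMod p) : S.b * A x * S.b⁻¹ = A (S.r * x) := by
  set t : ZMod p := 1 - S.r
  have h1 : S.a = (S.a ^ S.s) ^ t.val := by
    rw [← pow_mul, S.pow_mod]
    conv_lhs => rw [← S.tr_one]
    congr 1
    simp [t, S.hs]
  have h2 : ((S.s - 1 : ℕ) : ZMod p) * t = S.r := by
    rw [Nat.cast_sub S.hs0, Nat.cast_one, sub_mul, S.hs, one_mul]
    simp [t]
  have h3 : S.b * S.a * S.b⁻¹ = A S.r := by
    conv_lhs => rw [h1]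
    rw [← conj_pow, S.rel2, ← pow_mul, S.pow_mod]
    congr 1
    rw [Nat.cast_mul, ZMod.natCast_val, ZMod.cast_id]
    exact h2
  rw [tr, ← conj_pow, h3, tr, ← pow_mul, S.pow_mod]
  congr 1
  simp

theorem wgen_zero : E (0 : ZMod p) = S.z := by simp [wgen, S.tr_zero]

theorem wgen_one : E (1 : ZMod p) = S.a * S.z * S.a⁻¹ := by rw [wgen, S.tr_one]

theorem tr_wgen (x y : ZMod p) : A x * E y * (A x)⁻¹ = E (x + y) := by
  rw [wgen, wgen, S.tr_add]
  group

theorem a_wgen (y : ZMod p) : S.a * E y * S.a⁻¹ = E (1 + y) := by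
  have := S.tr_wgen 1 y
  rwa [S.tr_one] at this

theorem b_wgen (y : ZMod p) : S.b * E y * S.b⁻¹ = E (S.r * y) ^ S.ε := by
  rw [wgen, wgen, ← conj_zpow' _ S.z]
  rw [← S.rel3, ← S.tr_mul]
  group

/-- All pairs of window generators satisfy the twisted Carmichael relation. -/
theorem pair {x y : ZMod p} (h : x ≠ y) : (E x * E y) ^ 2 = E x ^ 3 := by
  have step : ∀ w, (S.z * E w) ^ 2 = S.z ^ 3 → (S.z * E (S.r * w)) ^ 2 = S.z ^ 3 := by
    intro w hw
    have h' : (S.b * (S.z * E w) * S.b⁻¹) ^ 2 = (S.b * S.z * S.b⁻¹) ^ 3 := by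
      rw [conj_pow, conj_pow, hw]
    rw [show S.b * (S.z * E w) * S.b⁻¹ = (S.b * S.z * S.b⁻¹) * (S.b * E w * S.b⁻¹) by group,
      S.rel3, S.b_wgen] at h'
    rcases S.hε with e | e <;> rw [e] at h'
    · simpa using h'
    · exact sq_cube_inv (by simpa using h')
  have base : ∀ j : ℕ, (S.z * E (S.r ^ j)) ^ 2 = S.z ^ 3 := by
    intro j
    induction j with
    | zero => rw [pow_zero, S.wgen_one]; exact S.rel4
    | succ j ih =>
      rw [show S.r ^ (j + 1) = S.r * S.r ^ j from pow_succ' _ _]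
      exact step _ ih
  obtain ⟨j, hj⟩ := S.hr (y - x) (sub_ne_zero.mpr (Ne.symm h))
  have h' := base j
  rw [← hj] at h'
  have := congrArg (fun g => A x * g * (A x)⁻¹) h'
  rw [← conj_pow, ← conj_pow,
    show A x * (S.z * E (y - x)) * (A x)⁻¹ = (A x * S.z * (A x)⁻¹) * (A x * E (y - x) * (A x)⁻¹) by
      group, S.tr_wgen, add_sub_cancel] at this
  exact this

theorem cube_eq {x y : ZMod p} (h : x ≠ y) : E x ^ 3 = E y ^ 3 := by
  have h1 := S.pair h
  have h2 := S.pair h.symm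
  rw [show (E y * E x) ^ 2 = (E x)⁻¹ * (E x * E y) ^ 2 * E x by simp [pow_two, mul_assoc], h1] at h2
  rw [← h2]
  group

theorem cube_sq_one : S.z ^ 3 * S.z ^ 3 = 1 := by
  have h01 : (0 : ZMod p) ≠ 1 := zero_ne_one
  have e := S.cube_eq h01
  rw [← S.wgen_zero]
  exact cube_sq rfl e.symm (S.pair h01) ((S.pair h01.symm).trans e.symm)

theorem a_cube : S.a * S.z ^ 3 * S.a⁻¹ = S.z ^ 3 := by
  have := S.cube_eq (zero_ne_one (α := ZMod p))
  rw [S.wgen_zero, S.wgen_one, conj_pow] at this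
  exact this.symm

/-- The relation for `U` forces `z³ = 1`. -/
theorem z_cube : S.z ^ 3 = 1 := by
  have h : (S.U * S.z * S.U⁻¹) ^ 3 = 1 := by
    rw [S.rel6]
    refine S.hδ.pow_three ?_
    rw [← pow_mul, mul_comm, pow_mul, conj_pow, S.a_cube, show (4 : ℕ) = 2 * 2 from rfl, pow_mul,
      sq (S.z ^ 3), S.cube_sq_one, one_pow]
  rwa [conj_pow, conj_eq_one_iff] at h

theorem wgen_cube (x : ZMod p) : E x ^ 3 = 1 := by
  rw [wgen, conj_pow, S.z_cube, mul_one, mul_inv_cancel]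

theorem pair_one {x y : ZMod p} (h : x ≠ y) : (E x * E y) ^ 2 = 1 := by
  rw [S.pair h, S.wgen_cube]

theorem U_z : S.U * S.z * S.U⁻¹ = E (1 : ZMod p) ^ S.δ := by
  rw [S.rel6, ← S.wgen_one, show (4 : ℕ) = 3 + 1 from rfl, pow_succ, S.wgen_cube, one_mul]

theorem map_wgen (x : ZMod p) : Φ (E x) = cyc u v (q x.val) := by
  have key : ∀ n : ℕ, Φ (E (n : ZMod p)) = cyc u v (q (n : ZMod p).val) := by
    intro n
    induction n with
    | zero => simp [S.wgen_zero, S.hΦz]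
    | succ n ih =>
      rw [Nat.cast_succ, add_comm, ← S.a_wgen, map_mul, map_mul, map_inv, ih, S.hΦa, add_comm]
  simpa using key x.val

/-- The window points. -/
def wpt : ZMod p ↪ β :=
  ⟨fun x => q x.val, fun x y h => ZMod.val_injective p
    (S.hqinj _ _ (x.val_lt.trans_le S.hpL) (y.val_lt.trans_le S.hpL) h)⟩

theorem win_carm :
    Finite (win p S.a S.z) ∧ Set.InjOn Φ (win p S.a S.z : Set Q) ∧
    ∀ σ : Perm β, sign σ = 1 → (∀ t, t ≠ u → t ≠ v → (∀ i < p, t ≠ q i) → σ t = t) →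
      ∃ g ∈ win p S.a S.z, Φ g = σ := by
  obtain ⟨h1, h2, h3⟩ := carm Φ S.huv S.wpt (fun x => S.hqu _) (fun x => S.hqv _) E
    S.map_wgen S.wgen_cube fun x y h => S.pair_one h
  refine ⟨h1, h2, fun σ hσ hfix => h3 σ hσ fun t ht => hfix t ?_ ?_ ?_⟩
  · rintro rfl; exact ht ⟨Sum.inl 0, rfl⟩
  · rintro rfl; exact ht ⟨Sum.inl 1, rfl⟩
  · rintro i hi rfl
    exact ht ⟨Sum.inr (i : ZMod p), congrArg q (ZMod.val_natCast_of_lt hi)⟩

theorem finite_win : Finite (win p S.a S.z) := S.win_carm.1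

theorem injOn_win : Set.InjOn Φ (win p S.a S.z : Set Q) := S.win_carm.2.1

theorem wgen_mem (x : ZMod p) : E x ∈ win p S.a S.z := Subgroup.subset_closure ⟨x, rfl⟩

theorem z_mem : S.z ∈ win p S.a S.z := by
  have := S.wgen_mem 0
  rwa [S.wgen_zero] at this

theorem a_norm : S.a ∈ Subgroup.normalizer (win p S.a S.z : Set Q) := by
  have : Finite (Subgroup.closure (Set.range (wgen (p := p) S.a S.z))) := S.finite_win
  refine mem_normalizer_closure ?_
  rintro _ ⟨y, rfl⟩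
  rw [S.a_wgen]
  exact S.wgen_mem _

theorem b_norm : S.b ∈ Subgroup.normalizer (win p S.a S.z : Set Q) := by
  have : Finite (Subgroup.closure (Set.range (wgen (p := p) S.a S.z))) := S.finite_win
  refine mem_normalizer_closure ?_
  rintro _ ⟨y, rfl⟩
  rw [S.b_wgen]
  exact zpow_mem (S.wgen_mem _) _

end Setup

end Cfsg.Agent.ShortPres.Shift
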