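import Cfsg.Agent.ShortPres.AltGlue

/-!
# Carmichael generators map injectively

If elements of a group satisfy the Carmichael relations and a homomorphism sends them to the
three-cycles through two common points, the homomorphism is injective on the subgroup they
generate, and the image consists of the even permutations of those points.
-/

set_option autoImplicit false

namespace Cfsg.Agent.ShortPres.Shift

open Equiv Equiv.Perm Cfsg.Agent.AltMult Cfsg.Agent.ShortPres

variable {Q : Type*} [Group Q] {β : Type*} [Fintype β] [DecidableEq β] {X : Type*} [Fintype X]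
  [DecidableEq X]

/-- The embedding of two extra points and an index type. -/
def join (u v : β) (huv : u ≠ v) (f : X ↪ β) (hu : ∀ x, f x ≠ u) (hv : ∀ x, f x ≠ v) :
    Fin 2 ⊕ X ↪ β where
  toFun := Sum.elim ![u, v] f
  inj' := by
    rintro (i | x) (j | y) h
    · fin_cases i <;> fin_cases j <;> first | rfl | exact absurd h huv | exact absurd h.symm huv
    · fin_cases i
      · exact absurd h.symm (hu y)
      · exact absurd h.symm (hv y)
    · fin_cases j
      · exact absurd h (hu x)
      · exact absurd h (hv x)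
    · exact congrArg Sum.inr (f.injective h)

theorem carm (Φ : Q →* Perm β) {u v : β} (huv : u ≠ v) (f : X ↪ β) (hu : ∀ x, f x ≠ u)
    (hv : ∀ x, f x ≠ v) (E : X → Q) (hΦ : ∀ x, Φ (E x) = cyc u v (f x))
    (h3 : ∀ x, E x ^ 3 = 1) (h2 : ∀ x y, x ≠ y → (E x * E y) ^ 2 = 1) :
    Finite (Subgroup.closure (Set.range E)) ∧
    Set.InjOn Φ (Subgroup.closure (Set.range E) : Set Q) ∧
    ∀ σ : Perm β, sign σ = 1 → (∀ t, t ∉ Set.range (join u v huv f hu hv) → σ t = t) →
      ∃ g ∈ Subgroup.closure (Set.range E), Φ g = σ := by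
  classical
  obtain ⟨hfin, hle⟩ := finite_closure_range E h3 h2
  set N := Subgroup.closure (Set.range E) with hN
  set j := join u v huv f hu hv with hj
  have h01 : (Sum.inl 0 : Fin 2 ⊕ X) ≠ Sum.inl 1 := by simp
  let ψ : alternatingGroup (Fin 2 ⊕ X) →* Perm β :=
    (permMap j).comp (alternatingGroup (Fin 2 ⊕ X)).subtype
  have hψinj : Function.Injective ψ := fun g h e => Subtype.ext (Equiv.ext fun t => j.injective (by
    have := congrFun (congrArg DFunLike.coe e) (j t)
    simpa [ψ, permMap_apply] using this))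
  have hgen : Set.range (fun x => cyc u v (f x)) =
      ψ '' Set.range (cycR (β := Fin 2 ⊕ X) h01) := by
    have key : ∀ x : X, ψ (cycR h01 ⟨Sum.inr x, by simp, by simp⟩) = cyc u v (f x) := fun x => by
      show permMap j (cyc (Sum.inl 0) (Sum.inl 1) (Sum.inr x)) = _
      rw [cyc, map_mul, permMap_swap, permMap_swap]
      rfl
    ext w
    constructor
    · rintro ⟨x, rfl⟩
      exact ⟨_, ⟨_, rfl⟩, key x⟩
    · rintro ⟨_, ⟨⟨z, hz1, hz2⟩, rfl⟩, rfl⟩
      rcases z with i | x
      · exfalso
        fin_cases i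
        · exact hz1 rfl
        · exact hz2 rfl
      · exact ⟨x, (key x).symm⟩
  have himg : N.map Φ = ψ.range := by
    rw [hN, MonoidHom.map_closure, ← Set.range_comp, show Φ ∘ E = fun x => cyc u v (f x) from
      funext hΦ, hgen, ← MonoidHom.map_closure, closure_cycR, MonoidHom.range_eq_map]
  have : Nontrivial (Fin 2 ⊕ X) := ⟨⟨_, _, h01⟩⟩
  have hcard : Nat.card N ≤ Nat.card (N.map Φ) := by
    rw [himg, Nat.card_congr (MonoidHom.ofInjective hψinj).symm.toEquiv]
    have h := two_mul_card_alt (β := Fin 2 ⊕ X)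
    rw [Fintype.card_sum, Fintype.card_fin, add_comm] at h
    omega
  refine ⟨hfin, fun g hg h hh e => ?_, fun σ hσ hfix => ?_⟩
  · have hb := Function.Surjective.bijective_of_nat_card_le
      (f := (Φ.subgroupMap N : N → N.map Φ)) (Φ.subgroupMap_surjective N) hcard
    exact congrArg Subtype.val (hb.1 (a₁ := ⟨g, hg⟩) (a₂ := ⟨h, hh⟩) (Subtype.ext e))
  · have hmem : ∀ t, t ∈ Set.range j → σ t ∈ Set.range j := fun t ht => by
      by_contra hc
      have := hfix _ hc
      rw [σ.injective this] at hc
      exact hc ht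
    choose σ0 hσ0 using fun x => hmem (j x) ⟨x, rfl⟩
    have hinj : Function.Injective σ0 := fun x y e => j.injective (σ.injective (by
      rw [← hσ0, ← hσ0, e]))
    let τ : Perm (Fin 2 ⊕ X) := Equiv.ofBijective σ0 (Finite.injective_iff_bijective.mp hinj)
    have hτ : permMap j τ = σ := Equiv.ext fun t => by
      by_cases ht : t ∈ Set.range j
      · obtain ⟨x, rfl⟩ := ht
        rw [permMap_apply]
        exact hσ0 x
      · rw [permMap_of_notMem j τ ht, hfix t ht]
    have hτs : τ ∈ alternatingGroup (Fin 2 ⊕ X) := by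
      rw [mem_alternatingGroup, ← sign_permMap j, hτ, hσ]
    have : σ ∈ N.map Φ := himg ▸ ⟨⟨τ, hτs⟩, hτ⟩
    obtain ⟨g, hg, e⟩ := this
    exact ⟨g, hg, e⟩

/-- An element mapping the generators of a finite subgroup into it normalises it. -/
theorem mem_normalizer_closure {S : Set Q} [Finite (Subgroup.closure S)] {g : Q}
    (h : ∀ s ∈ S, g * s * g⁻¹ ∈ Subgroup.closure S) :
    g ∈ Subgroup.normalizer (Subgroup.closure S : Set Q) := by
  have hle : (Subgroup.closure S).map (MulAut.conj g).toMonoidHom ≤ Subgroup.closure S := by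
    rw [MonoidHom.map_closure, Subgroup.closure_le]
    rintro _ ⟨s, hs, rfl⟩
    exact h s hs
  have heq := Subgroup.eq_of_le_of_card_ge hle
    (Subgroup.card_map_of_injective (MulAut.conj g).injective).ge
  rw [Subgroup.mem_normalizer_iff]
  intro x
  refine ⟨fun hx => hle ⟨x, hx, rfl⟩, fun hx => ?_⟩
  rw [← heq] at hx
  obtain ⟨y, hy, e⟩ := hx
  rwa [← (MulAut.conj g).injective (show MulAut.conj g y = MulAut.conj g x from e)]

end Cfsg.Agent.ShortPres.Shift
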