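import Cfsg.Agent.ShortPres.Shift.Glue

/-!
# The presented group maps injectively
-/

set_option autoImplicit false

namespace Cfsg.Agent.ShortPres.Shift

open Equiv Equiv.Perm Cfsg.Agent.AltMult Cfsg.Agent.ShortPres

variable {Q : Type*} [Group Q] {β : Type*} [Fintype β] [DecidableEq β]

namespace Glue

variable {p : ℕ} [Fact p.Prime] {Φ : Q →* Perm β} {u v : β} {q : ℕ → β} {L : ℕ}
  {S : Setup p Φ u v q L}

theorem sign_all {g : Q} (hg : g ∈ all (S := S)) : sign (Φ g) = 1 := by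
  have h : all (S := S) ≤ (Perm.sign.comp Φ).ker := by
    rw [all, Subgroup.closure_le]
    rintro _ ⟨i, rfl⟩
    show sign (Φ (gen S i)) = 1
    rw [map_gen]
    exact sign_cyc S.huv (S.hqu _).symm
  exact h hg

theorem even_mem (G : Glue S) (hcov : ∀ t, t = u ∨ t = v ∨ ∃ i < L, t = q i) {σ : Perm β}
    (hσ : sign σ = 1) : ∃ g ∈ all (S := S), Φ g = σ :=
  G.all_carm.2.2 σ hσ fun t h1 h2 h3 => by
    rcases hcov t with h | h | ⟨i, hi, h⟩
    exacts [absurd h h1, absurd h h2, absurd h (h3 i hi)]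

/-- The alternating case. -/
theorem alt_finish (G : Glue S) (hQ : Subgroup.closure ({S.a, S.b, S.z, S.U} : Set Q) = ⊤)
    (hcov : ∀ t, t = u ∨ t = v ∨ ∃ i < L, t = q i)
    (ha : S.a ∈ win p S.a S.z) (hb : S.b ∈ win p S.a S.z) (hWd : G.Wd ∈ win p S.a S.z) :
    Function.Injective Φ ∧ ∀ σ, σ ∈ Φ.range ↔ sign σ = 1 := by
  have htop : all (S := S) = ⊤ := by
    rw [eq_top_iff, ← hQ, Subgroup.closure_le]
    rintro x (rfl | rfl | rfl | rfl)
    · exact G.win_le ha
    · exact G.win_le hb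
    · exact G.win_le S.z_mem
    · rw [G.U_eq]
      exact mul_mem (G.win_le hWd) G.tail_mem
  refine ⟨fun x y h => G.all_carm.2.1 (htop ▸ Subgroup.mem_top x) (htop ▸ Subgroup.mem_top y) h,
    fun σ => ⟨?_, fun h => ?_⟩⟩
  · rintro ⟨g, rfl⟩
    exact sign_all (htop ▸ Subgroup.mem_top g)
  · obtain ⟨g, -, e⟩ := G.even_mem hcov h
    exact ⟨g, e⟩

/-- The symmetric case. -/
theorem sym_finish (G : Glue S) (hQ : Subgroup.closure ({S.a, S.b, S.z, S.U} : Set Q) = ⊤)
    (hcov : ∀ t, t = u ∨ t = v ∨ ∃ i < L, t = q i)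
    (ha : S.a ∈ win p S.a S.z) (hb2 : S.b * S.b ∈ win p S.a S.z) (hbs : sign (Φ S.b) = -1)
    (hWd : ∃ W' ∈ win p S.a S.z, G.Wd = S.b * W') :
    Function.Bijective Φ := by
  obtain ⟨W', hW', eW⟩ := hWd
  have hbn : S.b ∈ Subgroup.normalizer (all (S := S) : Set Q) := by
    have : S.b = S.U * G.tail⁻¹ * W'⁻¹ := by
      rw [eq_mul_inv_iff_mul_eq, eq_mul_inv_iff_mul_eq, ← eW]
      exact G.U_eq.symm
    rw [this]
    exact mul_mem (mul_mem G.U_norm (inv_mem (Subgroup.le_normalizer G.tail_mem)))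
      (inv_mem (Subgroup.le_normalizer (G.win_le hW')))
  have split : ∀ g : Q, g ∈ all (S := S) ∨ ∃ h ∈ all (S := S), g = S.b * h := by
    let H : Subgroup Q :=
      { carrier := {g | g ∈ all (S := S) ∨ ∃ h ∈ all (S := S), g = S.b * h}
        one_mem' := Or.inl (one_mem _)
        mul_mem' := by
          rintro x y (hx | ⟨h, hh, rfl⟩) (hy | ⟨h', hh', rfl⟩)
          · exact Or.inl (mul_mem hx hy)
          · exact Or.inr ⟨S.b⁻¹ * x * S.b * h', mul_mem (conj_mem_of_normalizer' hbn hx) hh',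
              by group⟩
          · exact Or.inr ⟨h * y, mul_mem hh hy, mul_assoc _ _ _⟩
          · refine Or.inl ?_
            rw [show S.b * h * (S.b * h') = (S.b * S.b) * (S.b⁻¹ * h * S.b) * h' by group]
            exact mul_mem (mul_mem (G.win_le hb2) (conj_mem_of_normalizer' hbn hh)) hh'
        inv_mem' := by
          rintro x (hx | ⟨h, hh, rfl⟩)
          · exact Or.inl (inv_mem hx)
          · refine Or.inr ⟨(S.b * S.b)⁻¹ * (S.b * h⁻¹ * S.b⁻¹), mul_mem (inv_mem (G.win_le hb2))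
              (conj_mem_of_normalizer hbn (inv_mem hh)), ?_⟩
            group }
    have hH : H = ⊤ := by
      rw [eq_top_iff, ← hQ, Subgroup.closure_le]
      rintro x (rfl | rfl | rfl | rfl)
      · exact Or.inl (G.win_le ha)
      · exact Or.inr ⟨1, one_mem _, (mul_one _).symm⟩
      · exact Or.inl (G.win_le S.z_mem)
      · refine Or.inr ⟨W' * G.tail, mul_mem (G.win_le hW') G.tail_mem, ?_⟩
        rw [← mul_assoc, ← eW]
        exact G.U_eq
    exact fun g => (show g ∈ H from hH ▸ Subgroup.mem_top g)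
  refine ⟨(injective_iff_map_eq_one Φ).mpr fun g hg => ?_, fun σ => ?_⟩
  · rcases split g with h | ⟨h, hh, rfl⟩
    · exact G.all_carm.2.1 h (one_mem _) (hg.trans (map_one Φ).symm)
    · have := congrArg sign hg
      rw [map_mul, map_mul, hbs, sign_all hh, mul_one, map_one] at this
      exact absurd this (by decide)
  · rcases Int.units_eq_one_or (sign σ) with h | h
    · obtain ⟨g, -, e⟩ := G.even_mem hcov h
      exact ⟨g, e⟩
    · obtain ⟨g, -, e⟩ := G.even_mem hcov (σ := (Φ S.b)⁻¹ * σ) (by rw [map_mul, map_inv, hbs, h]; rfl)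
      exact ⟨S.b * g, by rw [map_mul, e, mul_inv_cancel_left]⟩

end Glue

end Cfsg.Agent.ShortPres.Shift
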