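import Cfsg.Agent.ShortPres.Shift.Base

/-!
# Shifting the window over all points

Two further relations make the shift consistent on the window and the last one spreads the
Carmichael relations over all points.
-/

set_option autoImplicit false

namespace Cfsg.Agent.ShortPres.Shift

open Equiv Equiv.Perm Cfsg.Agent.AltMult Cfsg.Agent.ShortPres

variable {Q : Type*} [Group Q] {β : Type*} [Fintype β] [DecidableEq β]

/-- The remaining two relations. -/
structure Glue {p : ℕ} [Fact p.Prime] {Φ : Q →* Perm β} {u v : β} {q : ℕ → β} {L : ℕ}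
    (S : Setup p Φ u v q L) where
  k : ℕ
  W : Q
  W1 : Q
  W1' : Q
  t0 : Q
  Wd : Q
  Wd2 : Q
  n0 : ℕ
  n1 : ℕ
  η : ℤ
  hη : IsSign η
  hk : k < p
  hL : L = p + k
  hW : W ∈ win p S.a S.z
  hW1 : W1 ∈ win p S.a S.z
  hW1' : W1' ∈ win p S.a S.z
  ht0 : t0 ∈ Subgroup.closure ({S.a, S.b} : Set Q)
  hWd : Wd ∈ Subgroup.closure ({S.a, S.b} : Set Q) ⊔ win p S.a S.z
  hWd2 : Wd2 ∈ win p S.a S.z
  hWt : Φ W = Φ t0
  hn0 : t0 ^ n0 = 1
  hn1 : Φ W1 ^ n1 = 1
  hcop : Nat.Coprime n0 n1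
  rel5 : S.U * (W1 * (t0 * W⁻¹)) * S.U⁻¹ = W1'
  rel7 : S.U = Wd * (S.U ^ (p - 1) * Wd2 * (S.U ^ (p - 1))⁻¹)
  hgen : ∀ i, i + 1 < p → cyc u v (q i) ∈ Subgroup.closure ({Φ W1, cyc u v (q 0)} : Set (Perm β))
  hD0 : (Φ Wd)⁻¹ * Φ S.U * cyc u v (q 0) * ((Φ Wd)⁻¹ * Φ S.U)⁻¹ = cyc u v (q 0) ^ η
  hd2 : ∀ l, l < k → Φ Wd2 * cyc u v (q l) * (Φ Wd2)⁻¹ = cyc u v (q (l + 1)) ^ η
  hd2k : Φ Wd2 * cyc u v (q k) * (Φ Wd2)⁻¹ = cyc u v (q 0) ^ η

namespace Glue

variable {p : ℕ} [Fact p.Prime] {Φ : Q →* Perm β} {u v : β} {q : ℕ → β} {L : ℕ}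
  {S : Setup p Φ u v q L} (G : Glue S)

local notation "E" => wgen (p := p) S.a S.z
local notation "N" => win p S.a S.z

theorem pos : 0 < p := (Fact.out : p.Prime).pos

theorem ab_le : Subgroup.closure ({S.a, S.b} : Set Q) ⊔ N ≤ Subgroup.normalizer (N : Set Q) := by
  refine sup_le ?_ Subgroup.le_normalizer
  rw [Subgroup.closure_le]
  rintro x (rfl | rfl)
  · exact S.a_norm
  · exact S.b_norm

/-- Conjugates inside the window are determined by their images. -/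
theorem conj_eq {g x y : Q} (hg : g ∈ Subgroup.normalizer (N : Set Q)) (hx : x ∈ N) (hy : y ∈ N)
    (h : Φ g * Φ x * (Φ g)⁻¹ = Φ y) : g * x * g⁻¹ = y :=
  S.injOn_win (conj_mem_of_normalizer hg hx) hy (by rw [map_mul, map_mul, map_inv, h])

theorem t0_mem : G.t0 ∈ N ∧ S.U * G.W1 * S.U⁻¹ ∈ N := by
  have hn : G.t0 ∈ Subgroup.normalizer (N : Set Q) := ab_le (Subgroup.mem_sup_left G.ht0)
  set K := G.t0 * G.W⁻¹ with hK
  have hKn : K ∈ Subgroup.normalizer (N : Set Q) :=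
    mul_mem hn (inv_mem (Subgroup.le_normalizer G.hW))
  have hK1 : Φ K = 1 := by rw [hK, map_mul, map_inv, G.hWt, mul_inv_cancel]
  have hcW : Commute G.t0 G.W := by
    have := conj_eq hn G.hW G.hW (by rw [G.hWt, mul_inv_cancel_right])
    exact mul_inv_eq_iff_eq_mul.mp this
  have hWq : G.W ^ G.n0 = 1 :=
    S.injOn_win (pow_mem G.hW _) (one_mem _)
      (by rw [map_pow, G.hWt, ← map_pow, G.hn0, map_one])
  have hKq : K ^ G.n0 = 1 := by
    rw [hK, hcW.inv_right.mul_pow, G.hn0, inv_pow, hWq, inv_one, mul_one]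
  have hcK : Commute G.W1 K := by
    have := conj_eq hKn G.hW1 G.hW1 (by rw [hK1, inv_one, one_mul, mul_one])
    exact (mul_inv_eq_iff_eq_mul.mp this).symm
  have hW1q : G.W1 ^ G.n1 = 1 :=
    S.injOn_win (pow_mem G.hW1 _) (one_mem _) (by rw [map_pow, G.hn1, map_one])
  have hW1'q : G.W1' ^ G.n1 = 1 := by
    refine S.injOn_win (pow_mem G.hW1' _) (one_mem _) ?_
    rw [← G.rel5, ← hK, map_pow, map_mul, map_mul, map_mul, map_inv, hK1, mul_one, conj_pow, G.hn1,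
      mul_one, mul_inv_cancel, map_one]
  have h := congrArg (· ^ G.n1) G.rel5
  rw [← hK, conj_pow, hcK.mul_pow, hW1q, one_mul, hW1'q, conj_eq_one_iff] at h
  have hK0 : K = 1 := by
    have := pow_gcd_eq_one.mpr ⟨hKq, h⟩
    rwa [G.hcop.gcd_eq_one, pow_one] at this
  refine ⟨?_, ?_⟩
  · rw [hK, mul_inv_eq_one] at hK0
    exact hK0 ▸ G.hW
  · have := G.rel5
    rw [← hK, hK0, mul_one] at this
    exact this ▸ G.hW1'

/-- The shift on the window. -/
theorem U_wgen (G : Glue S) {i : ℕ} (hi : i + 1 < p) :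
    S.U * E (i : ZMod p) * S.U⁻¹ = E ((i + 1 : ℕ) : ZMod p) ^ S.δ := by
  let Sh : Subgroup Q := N ⊓ (N).comap (MulAut.conj S.U).toMonoidHom
  have hW1 : G.W1 ∈ Sh := ⟨G.hW1, G.t0_mem.2⟩
  have hz : S.z ∈ Sh := ⟨S.z_mem, by
    show S.U * S.z * S.U⁻¹ ∈ N
    rw [S.U_z]
    exact zpow_mem (S.wgen_mem _) _⟩
  obtain ⟨g, hg, hgΦ⟩ : cyc u v (q i) ∈ Sh.map Φ := by
    refine (Subgroup.closure_le _).mpr ?_ (G.hgen i hi)
    rintro x (rfl | rfl)
    · exact ⟨_, hW1, rfl⟩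
    · exact ⟨_, hz, S.hΦz⟩
  have hiv : ((i : ZMod p)).val = i := ZMod.val_natCast_of_lt (by omega)
  obtain rfl : g = E (i : ZMod p) :=
    S.injOn_win hg.1 (S.wgen_mem _) (by rw [hgΦ, S.map_wgen, hiv])
  refine S.injOn_win hg.2 (zpow_mem (S.wgen_mem _) _) ?_
  show Φ (S.U * E (i : ZMod p) * S.U⁻¹) = _
  rw [map_mul, map_mul, map_inv, map_zpow, S.map_wgen, S.map_wgen, hiv,
    ZMod.val_natCast_of_lt hi, ← S.hΦU i, S.hδ.zpow_zpow]

/-- The generators for all points. -/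
def gen (S : Setup p Φ u v q L) : ℕ → Q
  | 0 => S.z
  | i + 1 => (S.U * gen S i * S.U⁻¹) ^ S.δ

local notation "F" => gen S

theorem gen_wgen (G : Glue S) {i : ℕ} (hi : i < p) : F i = E (i : ZMod p) := by
  induction i with
  | zero => simp [gen, S.wgen_zero]
  | succ i ih => rw [gen, ih (by omega), G.U_wgen hi, S.hδ.zpow_zpow]

theorem map_gen (i : ℕ) : Φ (F i) = cyc u v (q i) := by
  induction i with
  | zero => exact S.hΦz
  | succ i ih => rw [gen, map_zpow, map_mul, map_mul, map_inv, ih, S.hΦU]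

theorem gen_cube (i : ℕ) : F i ^ 3 = 1 := by
  induction i with
  | zero => exact S.z_cube
  | succ i ih => exact S.hδ.pow_three (by rw [conj_pow, ih, mul_one, mul_inv_cancel])

theorem gen_shift (j i : ℕ) : F (i + j) = (S.U ^ j * F i * (S.U ^ j)⁻¹) ^ (S.δ ^ j) := by
  induction j with
  | zero => simp
  | succ j ih =>
    rw [← add_assoc, gen, ih, conj_zpow' S.U, ← zpow_mul, ← pow_succ,
      show S.U * (S.U ^ j * F i * (S.U ^ j)⁻¹) * S.U⁻¹ = S.U ^ (j + 1) * F i * (S.U ^ (j + 1))⁻¹ by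
        rw [pow_succ' S.U j]; group]

theorem sq_translate {i j : ℕ} (h : (F i * F j) ^ 2 = 1) (t : ℕ) :
    (F (i + t) * F (j + t)) ^ 2 = 1 := by
  induction t with
  | zero => simpa
  | succ t ih =>
    rw [← add_assoc, ← add_assoc, gen, gen]
    refine S.hδ.sq_zpow ?_
    rw [conj_mul, conj_pow, ih, mul_one, mul_inv_cancel]

theorem sq_win (G : Glue S) {i j : ℕ} (hi : i < p) (hj : j < p) (hij : i ≠ j) :
    (F i * F j) ^ 2 = 1 := by
  rw [G.gen_wgen hi, G.gen_wgen hj]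
  refine S.pair_one fun h => hij ?_
  have := congrArg ZMod.val h
  rwa [ZMod.val_natCast_of_lt hi, ZMod.val_natCast_of_lt hj] at this

theorem wd_norm : G.Wd ∈ Subgroup.normalizer (N : Set Q) := ab_le G.hWd

theorem wd2_norm : G.Wd2 ∈ Subgroup.normalizer (N : Set Q) := Subgroup.le_normalizer G.hWd2

/-- The factor after the window. -/
def tail : Q := S.U ^ (p - 1) * G.Wd2 * (S.U ^ (p - 1))⁻¹

theorem U_eq : S.U = G.Wd * G.tail := G.rel7

theorem tail_zero : G.tail * S.z * G.tail⁻¹ = S.z ^ G.η := by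
  have ht : G.tail = G.Wd⁻¹ * S.U := by rw [eq_inv_mul_iff_mul_eq]; exact G.U_eq.symm
  have h : G.tail * S.z * G.tail⁻¹ = G.Wd⁻¹ * (E (1 : ZMod p) ^ S.δ) * G.Wd⁻¹⁻¹ := by
    rw [ht, ← S.U_z]
    group
  rw [h]
  refine conj_eq (inv_mem G.wd_norm) (zpow_mem (S.wgen_mem _) _) (zpow_mem S.z_mem _) ?_
  rw [← S.U_z]
  simp only [map_zpow, map_mul, map_inv, S.hΦz, ← G.hD0, inv_inv]
  group

theorem tail_gen (l : ℕ) (hl : l ≤ G.k) :
    G.tail * F (l + (p - 1)) * G.tail⁻¹ =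
      F ((if l = G.k then 0 else l + 1) + (p - 1)) ^ G.η := by
  set l' := if l = G.k then 0 else l + 1 with hl'
  have hk := G.hk
  have hl'p : l' < p := by rw [hl']; split_ifs <;> omega
  have key : G.Wd2 * F l * G.Wd2⁻¹ = F l' ^ G.η := by
    rw [G.gen_wgen (by omega), G.gen_wgen hl'p]
    refine conj_eq G.wd2_norm (S.wgen_mem _) (zpow_mem (S.wgen_mem _) _) ?_
    rw [map_zpow, S.map_wgen, S.map_wgen, ZMod.val_natCast_of_lt (by omega),
      ZMod.val_natCast_of_lt hl'p, hl']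
    split_ifs with h
    · rw [h, G.hd2k]
    · exact G.hd2 l (by omega)
  rw [gen_shift (p - 1) l, gen_shift (p - 1) l', conj_zpow' G.tail,
    show G.tail * (S.U ^ (p - 1) * F l * (S.U ^ (p - 1))⁻¹) * G.tail⁻¹ =
        S.U ^ (p - 1) * (G.Wd2 * F l * G.Wd2⁻¹) * (S.U ^ (p - 1))⁻¹ by rw [tail]; group,
    key, conj_zpow', ← zpow_mul, ← zpow_mul, mul_comm]

theorem sq_far (l : ℕ) (hl : l ≤ G.k) : (F 0 * F (l + (p - 1))) ^ 2 = 1 := by
  induction l with
  | zero =>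
    rw [zero_add]
    refine G.sq_win pos (Nat.sub_lt pos one_pos) ?_
    have := (Fact.out : p.Prime).two_le
    omega
  | succ l ih =>
    have h := ih (by omega)
    have h' : ((G.tail * F 0 * G.tail⁻¹) * (G.tail * F (l + (p - 1)) * G.tail⁻¹)) ^ 2 = 1 := by
      rw [conj_mul, conj_pow, h, mul_one, mul_inv_cancel]
    rw [gen, G.tail_zero, G.tail_gen l (by omega), if_neg (by omega)] at h'
    have := G.hη.sq_zpow h'
    rwa [G.hη.zpow_zpow, G.hη.zpow_zpow] at this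

theorem sq_gen (G : Glue S) {i j : ℕ} (hi : i < L) (hj : j < L) (hij : i ≠ j) : (F i * F j) ^ 2 = 1 := by
  have main : ∀ i j, i < j → j < L → (F i * F j) ^ 2 = 1 := by
    intro i j hlt hj
    obtain ⟨d, rfl⟩ := Nat.exists_eq_add_of_lt hlt
    have h0 : (F 0 * F (d + 1)) ^ 2 = 1 := by
      by_cases hd : d + 1 < p
      · exact G.sq_win pos hd (by omega)
      · have := G.hL
        have e : d + 1 = (d + 1 - (p - 1)) + (p - 1) := by omega
        rw [e]
        exact G.sq_far _ (by omega)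
    have := sq_translate h0 i
    rwa [zero_add, show d + 1 + i = i + d + 1 by omega] at this
  rcases lt_or_gt_of_ne hij with h | h
  · exact main i j h hj
  · exact sq_flip (main j i h hi)

/-- The generators are periodic. -/
theorem gen_period (G : Glue S) : F L = S.z := by
  obtain ⟨L', hL'⟩ : ∃ L', L = L' + 1 := ⟨L - 1, by have := G.hL; have := pos (p := p); omega⟩
  have hmem : F L ∈ N := by
    rw [show F L = F (L' + 1) from congrArg (gen S) hL', gen, G.U_eq,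
      show G.Wd * G.tail * F L' * (G.Wd * G.tail)⁻¹ = G.Wd * (G.tail * F L' * G.tail⁻¹) * G.Wd⁻¹ by
        group]
    refine zpow_mem (conj_mem_of_normalizer G.wd_norm ?_) _
    have := G.hL
    have := (Fact.out : p.Prime).pos
    have e : L' = G.k + (p - 1) := by omega
    rw [e, G.tail_gen G.k le_rfl, if_pos rfl, zero_add, G.gen_wgen (Nat.sub_lt pos one_pos)]
    exact zpow_mem (S.wgen_mem _) _
  refine S.injOn_win hmem S.z_mem ?_
  rw [map_gen, S.hΦz]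
  exact congrArg _ (by simpa using S.hper 0)

/-- The subgroup of all generators. -/
def all : Subgroup Q := Subgroup.closure (Set.range fun i : Fin L => F i)

theorem gen_mem (G : Glue S) (i : ℕ) (hi : i ≤ L) : F i ∈ all (S := S) := by
  rcases eq_or_lt_of_le hi with rfl | h
  · rw [G.gen_period]
    exact Subgroup.subset_closure ⟨⟨0, lt_of_lt_of_le pos S.hpL⟩, rfl⟩
  · exact Subgroup.subset_closure ⟨⟨i, h⟩, rfl⟩

theorem win_le (G : Glue S) : N ≤ all (S := S) := by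
  rw [win, Subgroup.closure_le]
  rintro _ ⟨x, rfl⟩
  rw [show x = ((x.val : ℕ) : ZMod p) by simp, ← G.gen_wgen x.val_lt]
  exact G.gen_mem _ (x.val_lt.le.trans S.hpL)

theorem all_carm (G : Glue S) :
    Finite (all (S := S)) ∧ Set.InjOn Φ (all (S := S) : Set Q) ∧
    ∀ σ : Perm β, sign σ = 1 → (∀ t, t ≠ u → t ≠ v → (∀ i < L, t ≠ q i) → σ t = t) →
      ∃ g ∈ all (S := S), Φ g = σ := by
  let f : Fin L ↪ β := ⟨fun i => q i, fun i j h => Fin.ext (S.hqinj _ _ i.isLt j.isLt h)⟩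
  obtain ⟨h1, h2, h3⟩ := carm Φ S.huv f (fun i => S.hqu _) (fun i => S.hqv _) (fun i : Fin L => F i)
    (fun i => map_gen _) (fun i => gen_cube _)
    fun i j h => G.sq_gen i.isLt j.isLt fun e => h (Fin.ext e)
  refine ⟨h1, h2, fun σ hσ hfix => h3 σ hσ fun t ht => hfix t ?_ ?_ ?_⟩
  · rintro rfl; exact ht ⟨Sum.inl 0, rfl⟩
  · rintro rfl; exact ht ⟨Sum.inl 1, rfl⟩
  · rintro i hi rfl
    exact ht ⟨Sum.inr ⟨i, hi⟩, rfl⟩

theorem U_norm (G : Glue S) : S.U ∈ Subgroup.normalizer (all (S := S) : Set Q) := by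
  have : Finite (Subgroup.closure (Set.range fun i : Fin L => gen S i)) := G.all_carm.1
  refine mem_normalizer_closure ?_
  rintro _ ⟨i, rfl⟩
  have h : S.U * F i * S.U⁻¹ = F (i + 1) ^ S.δ := by rw [gen, S.hδ.zpow_zpow]
  rw [h]
  exact zpow_mem (G.gen_mem _ i.isLt) _

theorem tail_mem (G : Glue S) : G.tail ∈ all (S := S) :=
  conj_mem_of_normalizer (pow_mem G.U_norm _) (G.win_le G.hWd2)

theorem a_mem_of_b_pow {e : ℕ} (he : S.b ^ e ∈ N) (hre : S.r ^ e ≠ 1) : S.a ∈ N := by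
  have h1 : ∀ n : ℕ, S.b ^ n * tr (p := p) S.a 1 * (S.b ^ n)⁻¹ = tr (p := p) S.a (S.r ^ n) := by
    intro n
    induction n with
    | zero => simp
    | succ n ih =>
      rw [pow_succ' S.b, show S.b * S.b ^ n * tr (p := p) S.a 1 * (S.b * S.b ^ n)⁻¹ =
        S.b * (S.b ^ n * tr (p := p) S.a 1 * (S.b ^ n)⁻¹) * S.b⁻¹ by group, ih, S.tr_mul, ← pow_succ']
  have hm : tr (p := p) S.a (S.r ^ e - 1) ∈ N := by
    have hc : S.b ^ e * (S.a * (S.b ^ e)⁻¹ * S.a⁻¹) ∈ N :=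
      mul_mem he (conj_mem_of_normalizer S.a_norm (inv_mem he))
    have : S.b ^ e * (S.a * (S.b ^ e)⁻¹ * S.a⁻¹) = tr (p := p) S.a (S.r ^ e - 1) := by
      have h := h1 e
      rw [S.tr_one] at h
      rw [show S.b ^ e * (S.a * (S.b ^ e)⁻¹ * S.a⁻¹) = S.b ^ e * S.a * (S.b ^ e)⁻¹ * S.a⁻¹ by group,
        h, mul_inv_eq_iff_eq_mul]
      conv_rhs => arg 2; rw [← S.tr_one]
      rw [← S.tr_add, sub_add_cancel]
    rwa [this] at hc
  have hne : S.r ^ e - 1 ≠ 0 := sub_ne_zero.mpr hre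
  have hpow : ∀ n : ℕ, tr (p := p) S.a (n * (S.r ^ e - 1)) ∈ N := by
    intro n
    induction n with
    | zero => simp [S.tr_zero]
    | succ n ih => rw [Nat.cast_succ, add_mul, one_mul, S.tr_add]; exact mul_mem ih hm
  have := hpow ((S.r ^ e - 1)⁻¹).val
  rwa [ZMod.natCast_val, ZMod.cast_id, inv_mul_cancel₀ hne, S.tr_one] at this

end Glue

end Cfsg.Agent.ShortPres.Shift
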