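import Cfsg.Agent.ShortPres.Shift.Finish

/-!
# The permutations

`p + k` points on a circle and two further points.
-/

set_option autoImplicit false

namespace Cfsg.Agent.ShortPres.Shift

open Equiv Equiv.Perm Cfsg.Agent.AltMult Cfsg.Agent.ShortPres

/-- The circle and two further points. -/
abbrev Pts (L : ℕ) : Type := Fin 2 ⊕ Fin L

variable {L : ℕ}

/-- A power of the transposition of the two extra points, and a permutation of the circle. -/
def pm (e : ℕ) (g : Perm (Fin L)) : Perm (Pts L) :=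
  sumCongrHom (Fin 2) (Fin L) (swap 0 1 ^ e, g)

theorem pm_mul (e e' : ℕ) (g g' : Perm (Fin L)) : pm e g * pm e' g' = pm (e + e') (g * g') := by
  rw [pm, pm, pm, ← map_mul, Prod.mk_mul_mk, pow_add]

theorem pm_pow (e n : ℕ) (g : Perm (Fin L)) : pm e g ^ n = pm (e * n) (g ^ n) := by
  rw [pm, pm, ← map_pow, Prod.pow_mk, pow_mul]

theorem pm_zero_one : pm (L := L) 0 1 = 1 := by rw [pm, pow_zero]; exact map_one _

theorem pm_even {e : ℕ} (he : Even e) (g : Perm (Fin L)) : pm e g = pm 0 g := by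
  obtain ⟨m, rfl⟩ := he
  rw [pm, pm, ← two_mul, pow_mul, pow_two, swap_mul_self, one_pow, pow_zero]

theorem sign_pm (e : ℕ) (g : Perm (Fin L)) : sign (pm e g) = (-1) ^ e * sign g := by
  show sign (Equiv.sumCongr (swap 0 1 ^ e) g) = _
  rw [sign_sumCongr, map_pow, sign_swap (by decide)]

theorem pm_inr (e : ℕ) (g : Perm (Fin L)) (x : Fin L) : pm e g (Sum.inr x) = Sum.inr (g x) := rfl

theorem pm_inl (g : Perm (Fin L)) (i : Fin 2) : pm 0 g (Sum.inl i) = Sum.inl i := rfl

/-- The three-cycle through the extra points and a point of the circle. -/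
def C (x : Fin L) : Perm (Pts L) := cyc (Sum.inl 0) (Sum.inl 1) (Sum.inr x)

theorem C_cube (x : Fin L) : C x ^ 3 = 1 := cyc_pow_three (by simp) (by simp) (by simp)

theorem C_sq {x y : Fin L} (h : x ≠ y) : (C x * C y) ^ 2 = 1 :=
  cyc_mul_cyc_sq (by simp) (by simp) (by simp) (by simp) (by simp) (by simpa using h)

theorem sign_C (x : Fin L) : sign (C x) = 1 := sign_cyc (by simp) (by simp)

theorem isSign_negOne (e : ℕ) : IsSign ((-1 : ℤ) ^ e) := IsSign.pow (δ := -1) (Or.inr rfl) e

theorem pm_C (e : ℕ) (g : Perm (Fin L)) (x : Fin L) :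
    pm e g * C x * (pm e g)⁻¹ = C (g x) ^ ((-1 : ℤ) ^ e) := by
  rw [C, conj_cyc, C]
  rcases Nat.even_or_odd e with he | he
  · rw [pm_even he, he.neg_one_pow, zpow_one, pm_inl, pm_inl, pm_inr]
  · obtain ⟨m, rfl⟩ := he
    rw [Odd.neg_one_pow ⟨m, rfl⟩, zpow_neg_one, cyc_inv (by simp) (by simp) (by simp)]
    have h : (swap (0 : Fin 2) 1) ^ (2 * m + 1) = swap 0 1 := by
      rw [pow_succ, pow_mul, pow_two, swap_mul_self, one_pow, one_mul]
    simp [pm, h]

variable (p k sg : ℕ) [Fact p.Prime]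

theorem L_pos : 0 < p + k := by have := (Fact.out : p.Prime).pos; omega

/-- The point number `i` of the circle. -/
def pt (i : ℕ) : Fin (p + k) := ⟨i % (p + k), Nat.mod_lt _ (L_pos p k)⟩

theorem pt_val {i : ℕ} (h : i < p + k) : (pt p k i).val = i := Nat.mod_eq_of_lt h

theorem pt_self (x : Fin (p + k)) : pt p k x.val = x := Fin.ext (pt_val p k x.isLt)

/-- The window. -/
def wEmb : ZMod p ↪ Fin (p + k) :=
  ⟨fun x => pt p k x.val, fun x y h => ZMod.val_injective p (by
    have := congrArg Fin.val h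
    rwa [pt_val p k (x.val_lt.trans_le (Nat.le_add_right _ _)),
      pt_val p k (y.val_lt.trans_le (Nat.le_add_right _ _))] at this)⟩

theorem wEmb_natCast {i : ℕ} (h : i < p) : wEmb p k (i : ZMod p) = pt p k i :=
  congrArg (pt p k) (ZMod.val_natCast_of_lt h)

theorem mem_wEmb {x : Fin (p + k)} (h : x.val < p) : x ∈ Set.range (wEmb p k) :=
  ⟨(x.val : ZMod p), by rw [wEmb_natCast p k h, pt_self]⟩

/-- The translation of the prime field. -/
def addOne : Perm (ZMod p) := Equiv.addLeft 1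

theorem addOne_pow (n : ℕ) (x : ZMod p) : (addOne p ^ n) x = n + x := by
  induction n with
  | zero => simp
  | succ n ih =>
    rw [pow_succ', Perm.mul_apply, ih, Nat.cast_succ]
    show 1 + ((n : ZMod p) + x) = _
    ring

theorem addOne_pow_p : addOne p ^ p = 1 := Equiv.ext fun x => by simp [addOne_pow]

theorem sign_addOne (hp : Odd p) : sign (addOne p) = 1 := by
  have h := congrArg sign (addOne_pow_p p)
  rw [map_pow, map_one] at h
  rcases Int.units_eq_one_or (sign (addOne p)) with e | e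
  · exact e
  · rw [e, hp.neg_one_pow] at h
    exact absurd h (by decide)

/-- The image of `a`. -/
noncomputable def pA : Perm (Pts (p + k)) := pm 0 (permMap (wEmb p k) (addOne p))

/-- The image of `b`. -/
noncomputable def pB (r : (ZMod p)ˣ) : Perm (Pts (p + k)) :=
  pm (sg + 1) (permMap (wEmb p k) (Units.mulLeft r))

/-- The image of `z`. -/
def pZ : Perm (Pts (p + k)) := C (pt p k 0)

/-- The image of `U`. -/
def pU : Perm (Pts (p + k)) := pm (sg + k) (finRotate (p + k))

/-- The factor on the window. -/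
def pD : Perm (Pts (p + k)) := pm sg (Fin.cycleRange (pt p k (p - 1)))

/-- The factor on the first `k + 1` points. -/
def pD2 : Perm (Pts (p + k)) := pm k (Fin.cycleRange (pt p k k))

theorem pU_C (i : ℕ) :
    pU p k sg * C (pt p k i) * (pU p k sg)⁻¹ = C (pt p k (i + 1)) ^ ((-1 : ℤ) ^ (sg + k)) := by
  rw [pU, pm_C]
  congr 2
  obtain ⟨m, hm⟩ : ∃ m, p + k = m + 1 := ⟨p + k - 1, by have := L_pos p k; omega⟩
  apply Fin.ext
  have : NeZero (p + k) := ⟨(L_pos p k).ne'⟩
  rw [finRotate_apply, Fin.val_add]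
  simp [pt, Nat.add_mod]

theorem pU_eq (hk : k < p) :
    pU p k sg = pD p k sg * (pU p k sg ^ (p - 1) * pD2 p k * (pU p k sg ^ (p - 1))⁻¹) := by
  have hinv : (pU p k sg ^ (p - 1))⁻¹ =
      pm ((sg + k) * (p - 1)) ((finRotate (p + k) ^ (p - 1))⁻¹) := by
    rw [pU, pm_pow]
    refine inv_eq_of_mul_eq_one_right ?_
    rw [pm_mul, mul_inv_cancel, pm_even ⟨_, rfl⟩, pm_zero_one]
  rw [hinv, pU, pm_pow, pD, pD2, pm_mul, pm_mul, pm_mul]
  have he : ∀ g : Perm (Fin (p + k)), pm (sg + ((sg + k) * (p - 1) + k + (sg + k) * (p - 1))) g =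
      pm (sg + k) g := fun g => by
    rw [show sg + ((sg + k) * (p - 1) + k + (sg + k) * (p - 1)) =
      (sg + k) + ((sg + k) * (p - 1) + (sg + k) * (p - 1)) by ring,
      ← mul_one g, ← pm_mul, pm_even ⟨_, rfl⟩, pm_zero_one, mul_one, mul_one]
  rw [he]
  refine congrArg (pm (sg + k)) ?_
  have : NeZero (p + k) := ⟨(L_pos p k).ne'⟩
  have hp := (Fact.out : p.Prime).two_le
  have hrot : ∀ (n : ℕ) (x : Fin (p + k)), (finRotate (p + k) ^ n) x = pt p k (x.val + n) := by
    intro n
    induction n with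
    | zero => intro x; simp [pt_self]
    | succ n ih =>
      intro x
      rw [pow_succ', Perm.mul_apply, ih, finRotate_apply]
      apply Fin.ext
      rw [Fin.val_add]
      simp [pt, Nat.mod_add_mod, Nat.add_mod_mod, Nat.add_assoc]
  have hrinv : ∀ x : Fin (p + k), (finRotate (p + k) ^ (p - 1))⁻¹ x = pt p k (x.val + (k + 1)) := by
    intro x
    rw [Perm.inv_eq_iff_eq, hrot]
    apply Fin.ext
    simp only [pt, Nat.mod_add_mod]
    rw [show x.val + (k + 1) + (p - 1) = x.val + (p + k) by omega, Nat.add_mod_right,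
      Nat.mod_eq_of_lt x.isLt]
  refine Equiv.ext fun x => ?_
  simp only [Perm.mul_apply]
  rw [hrinv, hrot]
  have hx := x.isLt
  have v1 : (pt p k (p - 1)).val = p - 1 := pt_val p k (by omega)
  have v2 : (pt p k k).val = k := pt_val p k (by omega)
  by_cases h1 : x.val + 1 < p
  · have e1 : (pt p k (x.val + (k + 1))).val = x.val + (k + 1) := pt_val p k (by omega)
    rw [Fin.cycleRange_of_gt (i := pt p k k) (by simp only [Fin.lt_def]; omega), e1,
      show x.val + (k + 1) + (p - 1) = x.val + (p + k) by omega]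
    have e2 : pt p k (x.val + (p + k)) = x := by
      apply Fin.ext; simp [pt, Nat.mod_eq_of_lt x.isLt]
    rw [e2, Fin.cycleRange_of_lt (by simp only [Fin.lt_def]; omega), finRotate_apply]
  · have e1 : (pt p k (x.val + (k + 1))).val = x.val + 1 - p := by
      simp only [pt]
      rw [show x.val + (k + 1) = (x.val + 1 - p) + (p + k) by omega, Nat.add_mod_right,
        Nat.mod_eq_of_lt (by omega)]
    by_cases h2 : x.val + 1 = p + k
    · have e3 : pt p k (x.val + (k + 1)) = pt p k k := Fin.ext (by omega)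
      rw [e3, Fin.cycleRange_self, Fin.val_zero, zero_add, Fin.cycleRange_self, finRotate_apply]
      apply Fin.ext
      rw [Fin.val_add, Fin.val_one', Nat.add_mod_mod, h2, Nat.mod_self, Fin.val_zero]
    · rw [Fin.coe_cycleRange_of_lt (by simp only [Fin.lt_def]; omega), e1, finRotate_apply]
      have e4 : (pt p k (x.val + 1 - p + 1 + (p - 1))).val = x.val + 1 := by
        rw [show x.val + 1 - p + 1 + (p - 1) = x.val + 1 by omega]
        exact pt_val p k (by omega)
      rw [Fin.cycleRange_of_gt (by simp only [Fin.lt_def]; omega)]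
      apply Fin.ext
      rw [e4, Fin.val_add_one_of_lt' (by omega)]

theorem sign_cycleRange' {i : ℕ} (h : i < p + k) :
    sign (Fin.cycleRange (pt p k i)) = (-1) ^ i := by
  rw [Fin.sign_cycleRange, pt_val p k h]

theorem sign_pD (hp : Odd p) : sign (pD p k sg) = (-1) ^ sg := by
  have := (Fact.out : p.Prime).pos
  rw [pD, sign_pm, sign_cycleRange' p k (by omega)]
  obtain ⟨m, hm⟩ := hp
  rw [show p - 1 = 2 * m by omega, pow_mul, neg_one_sq, one_pow, mul_one]

theorem sign_pD2 : sign (pD2 p k) = 1 := by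
  rw [pD2, sign_pm, sign_cycleRange' p k (by have := (Fact.out : p.Prime).pos; omega), ← pow_add,
    Even.neg_one_pow ⟨k, rfl⟩]

theorem sign_pU (hp : Odd p) : sign (pU p k sg) = (-1) ^ sg := by
  obtain ⟨m, hm⟩ := hp
  rw [pU, sign_pm, show p + k = (2 * m + k) + 1 by omega, sign_finRotate,
    Nat.add_sub_cancel, ← pow_add,
    show sg + k + (2 * m + k) = sg + 2 * (k + m) by ring, pow_add, pow_mul, neg_one_sq, one_pow,
    mul_one]

/-- Fixing the points outside the window. -/
def Fixes : Subgroup (Perm (Pts (p + k))) where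
  carrier := {σ | ∀ x : Fin (p + k), p ≤ x.val → σ (Sum.inr x) = Sum.inr x}
  one_mem' _ _ := rfl
  mul_mem' hσ hτ x hx := by rw [Perm.mul_apply, hτ x hx, hσ x hx]
  inv_mem' hσ x hx := Perm.inv_eq_iff_eq.mpr (hσ x hx).symm

theorem pm_fixes {e : ℕ} {g : Perm (Fin (p + k))} (h : ∀ x, p ≤ x.val → g x = x) :
    pm e g ∈ Fixes p k := fun x hx => by rw [pm_inr, h x hx]

theorem permMap_fix (g : Perm (ZMod p)) (x : Fin (p + k)) (hx : p ≤ x.val) :
    permMap (wEmb p k) g x = x :=
  permMap_of_notMem _ _ fun ⟨y, hy⟩ => by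
    have := congrArg Fin.val hy
    rw [show (wEmb p k y).val = y.val from pt_val p k (y.val_lt.trans_le (Nat.le_add_right _ _))] at this
    have := y.val_lt
    omega

theorem pA_fixes : pA p k ∈ Fixes p k := pm_fixes p k (permMap_fix p k _)

theorem pB_fixes (r : (ZMod p)ˣ) : pB p k sg r ∈ Fixes p k := pm_fixes p k (permMap_fix p k _)

theorem cycleRange_fix {i : ℕ} (hi : i < p) (x : Fin (p + k)) (hx : p ≤ x.val) :
    Fin.cycleRange (pt p k i) x = x :=
  Fin.cycleRange_of_gt (by simp only [Fin.lt_def, pt_val p k (show i < p + k by omega)]; omega)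

theorem pD_fixes : pD p k sg ∈ Fixes p k :=
  pm_fixes p k (cycleRange_fix p k (Nat.sub_lt (Fact.out : p.Prime).pos one_pos))

theorem pD2_fixes (hk : k < p) : pD2 p k ∈ Fixes p k := pm_fixes p k (cycleRange_fix p k hk)

theorem C_fixes {x : Fin (p + k)} (h : x.val < p) : C x ∈ Fixes p k := fun y hy => by
  rw [C]
  refine cyc_apply_of_ne (by simp) (by simp) ?_
  intro e
  rw [Sum.inr.injEq] at e
  subst e
  omega

theorem pA_pow (n : ℕ) : pA p k ^ n = pm 0 (permMap (wEmb p k) (addOne p ^ n)) := by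
  rw [pA, pm_pow, zero_mul, map_pow]

theorem pA_C (n : ℕ) (x : ZMod p) :
    pA p k ^ n * C (wEmb p k x) * (pA p k ^ n)⁻¹ = C (wEmb p k (n + x)) := by
  rw [pA_pow, pm_C, permMap_apply, addOne_pow, pow_zero, zpow_one]

theorem pB_C (r : (ZMod p)ˣ) (x : ZMod p) :
    pB p k sg r * C (wEmb p k x) * (pB p k sg r)⁻¹ = C (wEmb p k (r * x)) ^ ((-1 : ℤ) ^ (sg + 1)) := by
  rw [pB, pm_C, permMap_apply]
  rfl

theorem sign_mulLeft {r : (ZMod p)ˣ} (hr : ∀ x : ZMod p, x ≠ 0 → ∃ j : ℕ, x = (r : ZMod p) ^ j)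
    (hp : 3 ≤ p) : sign (Units.mulLeft r : Perm (ZMod p)) = -1 := by
  set f : Perm (ZMod p) := Units.mulLeft r with hf
  have hfa : ∀ x, f x = (r : ZMod p) * x := fun x => rfl
  have hpow : ∀ (j : ℕ) (x : ZMod p), (f ^ j) x = (r : ZMod p) ^ j * x := by
    intro j
    induction j with
    | zero => simp
    | succ j ih => intro x; rw [pow_succ', Perm.mul_apply, ih, hfa, pow_succ', mul_assoc]
  have hr1 : (r : ZMod p) ≠ 1 := by
    intro h
    have h2 : (2 : ZMod p) ≠ 0 := by
      intro e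
      have : ((2 : ℕ) : ZMod p) = 0 := by exact_mod_cast e
      have := Nat.le_of_dvd two_pos ((ZMod.natCast_eq_zero_iff _ _).mp this)
      omega
    obtain ⟨j, hj⟩ := hr 2 h2
    rw [h, one_pow] at hj
    have : (1 : ZMod p) = 0 := by linear_combination hj
    exact one_ne_zero this
  have hsupp : f.support = Finset.univ.erase 0 := by
    ext x
    rw [Perm.mem_support, Finset.mem_erase, hfa]
    simp only [Finset.mem_univ, and_true]
    constructor
    · rintro h rfl; exact h (mul_zero _)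
    · exact fun h e => hr1 (mul_right_cancel₀ h (by rw [e, one_mul]))
  have hc : f.IsCycle := by
    refine ⟨1, by rw [hfa, mul_one]; exact hr1, fun y hy => ?_⟩
    have hy0 : y ≠ 0 := fun h => hy (by rw [h, hfa, mul_zero])
    obtain ⟨j, hj⟩ := hr y hy0
    exact ⟨j, by rw [zpow_natCast, hpow, mul_one, hj]⟩
  rw [hc.sign, hsupp, Finset.card_erase_of_mem (Finset.mem_univ _), Finset.card_univ, ZMod.card]
  obtain ⟨m, hm⟩ := (Fact.out : p.Prime).odd_of_ne_two (by omega)
  rw [show p - 1 = 2 * m by omega, pow_mul, neg_one_sq, one_pow]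

theorem sign_pA (hp : Odd p) : sign (pA p k) = 1 := by
  rw [pA, sign_pm, sign_permMap, sign_addOne p hp, pow_zero, one_mul]

theorem sign_pB {r : (ZMod p)ˣ} (hr : ∀ x : ZMod p, x ≠ 0 → ∃ j : ℕ, x = (r : ZMod p) ^ j)
    (hp : 3 ≤ p) : sign (pB p k sg r) = (-1) ^ sg := by
  rw [pB, sign_pm, sign_permMap, sign_mulLeft p hr hp, ← pow_succ,
    show sg + 1 + 1 = sg + 2 * 1 from rfl, pow_add, pow_mul, neg_one_sq, one_pow, mul_one]

end Cfsg.Agent.ShortPres.Shift
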