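import Cfsg.Agent.ShortPres.Shift.Model

/-!
# Relations chosen from words in the window, and the presented group
-/

set_option autoImplicit false

namespace Cfsg.Agent.ShortPres.Shift

open Equiv Equiv.Perm Cfsg.Agent.AltMult Cfsg.Agent.ShortPres

/-- The generator `a`. -/
abbrev fa : FreeGroup (Fin 4) := FreeGroup.of 0
/-- The generator `b`. -/
abbrev fb : FreeGroup (Fin 4) := FreeGroup.of 1
/-- The generator `z`. -/
abbrev fz : FreeGroup (Fin 4) := FreeGroup.of 2
/-- The generator `U`. -/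
abbrev fU : FreeGroup (Fin 4) := FreeGroup.of 3

variable (p k sg : ℕ) [Fact p.Prime] (r : (ZMod p)ˣ)

/-- The permutations of the generators. -/
noncomputable def Φ0 : FreeGroup (Fin 4) →* Perm (Pts (p + k)) :=
  FreeGroup.lift ![pA p k, pB p k sg r, pZ p k, pU p k sg]

theorem Φ0_a : Φ0 p k sg r fa = pA p k := by simp [Φ0]
theorem Φ0_b : Φ0 p k sg r fb = pB p k sg r := by simp [Φ0]
theorem Φ0_z : Φ0 p k sg r fz = pZ p k := by simp [Φ0]
theorem Φ0_U : Φ0 p k sg r fU = pU p k sg := by simp [Φ0]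

theorem pZ_eq : pZ p k = C (wEmb p k 0) := by
  rw [pZ, show (0 : ZMod p) = ((0 : ℕ) : ZMod p) from Nat.cast_zero.symm,
    wEmb_natCast p k (Fact.out : p.Prime).pos]

theorem Φ0_wgen (x : ZMod p) : Φ0 p k sg r (wgen fa fz x) = C (wEmb p k x) := by
  rw [wgen, tr, map_mul, map_mul, map_inv, map_pow, Φ0_a, Φ0_z, pZ_eq, pA_C, ZMod.natCast_zmod_val,
    add_zero]

theorem exists_word {σ : Perm (Pts (p + k))} (hσ : sign σ = 1) (hf : σ ∈ Fixes p k) :
    ∃ w ∈ win p fa fz, Φ0 p k sg r w = σ := by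
  let f : ZMod p ↪ Pts (p + k) := (wEmb p k).trans ⟨Sum.inr, Sum.inr_injective⟩
  obtain ⟨-, -, h⟩ := carm (MonoidHom.id _) (u := (Sum.inl 0 : Pts (p + k))) (v := Sum.inl 1)
    (by simp) f (fun x => by simp [f]) (fun x => by simp [f]) (fun x => C (wEmb p k x))
    (fun x => rfl) (fun x => C_cube _) fun x y hxy => C_sq ((wEmb p k).injective.ne hxy)
  obtain ⟨g, hg, rfl⟩ := h σ hσ fun t ht => by
    rcases t with i | x
    · exfalso
      exact ht ⟨Sum.inl i, by fin_cases i <;> rfl⟩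
    · refine hf x ?_
      by_contra hx
      obtain ⟨y, hy⟩ := mem_wEmb p k (Nat.lt_of_not_le hx)
      exact ht ⟨Sum.inr y, congrArg Sum.inr hy⟩
  rw [show Set.range (fun x => C (wEmb p k x)) = Φ0 p k sg r '' Set.range (wgen fa fz) by
    rw [← Set.range_comp]; exact congrArg Set.range (funext fun x => (Φ0_wgen p k sg r x).symm),
    ← MonoidHom.map_closure] at hg
  obtain ⟨w, hw, e⟩ := hg
  exact ⟨w, hw, e⟩

theorem ab_fixes {w : FreeGroup (Fin 4)} (hw : w ∈ Subgroup.closure ({fa, fb} : Set _)) :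
    Φ0 p k sg r w ∈ Fixes p k := by
  have h : Subgroup.closure ({fa, fb} : Set (FreeGroup (Fin 4))) ≤
      (Fixes p k).comap (Φ0 p k sg r) := by
    rw [Subgroup.closure_le]
    rintro x (rfl | rfl) <;> show Φ0 p k sg r _ ∈ Fixes p k
    · rw [Φ0_a]; exact pA_fixes p k
    · rw [Φ0_b]; exact pB_fixes p k sg r
  exact h hw

/-- The element used to compare `W1` with its shift. -/
structure Choice where
  T0 : FreeGroup (Fin 4)
  n0 : ℕ
  σ1 : Perm (Pts (p + k))
  n1 : ℕ
  hT0 : T0 ∈ Subgroup.closure ({fa, fb} : Set (FreeGroup (Fin 4)))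
  hT0s : sign (Φ0 p k sg r T0) = 1
  hn0 : ∀ {H : Type} [Group H] (f : FreeGroup (Fin 4) →* H),
    f fa ^ p = 1 → f fb ^ (p - 1) = 1 → f T0 ^ n0 = 1
  hn1 : σ1 ^ n1 = 1
  hcop : Nat.Coprime n0 n1
  hσs : sign σ1 = 1
  hσf : ∀ x : Fin (p + k), p - 1 ≤ x.val → σ1 (Sum.inr x) = Sum.inr x
  hgen : ∀ i, i + 1 < p → C (pt p k i) ∈
    Subgroup.closure ({σ1, C (pt p k 0)} : Set (Perm (Pts (p + k))))

theorem mulLeft_pow (n : ℕ) :
    (Units.mulLeft r : Perm (ZMod p)) ^ n = Units.mulLeft (r ^ n) := by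
  induction n with
  | zero => ext x; simp
  | succ n ih => rw [pow_succ', ih]; ext x; simp [pow_succ', mul_assoc]

theorem perm_rel1 : pA p k ^ p = pB p k sg r ^ (p - 1) * 1 ∧ pA p k ^ p = 1 ∨ p = 2 := by
  rcases (Fact.out : p.Prime).eq_two_or_odd' with h | h
  · exact Or.inr h
  · refine Or.inl ⟨?_, ?_⟩ <;> rw [pA_pow, addOne_pow_p, map_one, pm_zero_one]
    rw [mul_one, pB, pm_pow, pm_even ((h.tsub_odd odd_one).mul_left _), ← map_pow, mulLeft_pow,
      ZMod.units_pow_card_sub_one_eq_one]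
    rw [show (Units.mulLeft (1 : (ZMod p)ˣ) : Perm (ZMod p)) = 1 by ext x; simp, map_one, pm_zero_one]

theorem perm_rel2 {s : ℕ} (hs0 : 1 ≤ s) (hs : (s : ZMod p) * (1 - (r : ZMod p)) = 1) :
    pB p k sg r * pA p k ^ s * (pB p k sg r)⁻¹ = pA p k ^ (s - 1) := by
  rw [mul_inv_eq_iff_eq_mul, pA_pow, pA_pow, pB, pm_mul, pm_mul, add_zero, zero_add]
  refine congrArg (pm (sg + 1)) ?_
  rw [← map_mul, ← map_mul]
  refine congrArg _ (Equiv.ext fun x => ?_)
  simp only [Perm.mul_apply, addOne_pow, Units.mulLeft_apply, Nat.cast_sub hs0, Nat.cast_one]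
  linear_combination -hs

/-- The relations, as a list of pairs of sides. -/
def relList (s : ℕ) (ε δ : ℤ) (T0 W W1 W1' Wd Wd2 : FreeGroup (Fin 4)) :
    List (FreeGroup (Fin 4) × FreeGroup (Fin 4)) :=
  [(fa ^ p, fb ^ (p - 1)),
   (fb * fa ^ s * fb⁻¹, fa ^ (s - 1)),
   (fb * fz * fb⁻¹, fz ^ ε),
   ((fz * (fa * fz * fa⁻¹)) ^ 2, fz ^ 3),
   (fU * fz * fU⁻¹, ((fa * fz * fa⁻¹) ^ (4 : ℕ)) ^ δ),
   (fU * (W1 * (T0 * W⁻¹)) * fU⁻¹, W1'),
   (fU, Wd * (fU ^ (p - 1) * Wd2 * (fU ^ (p - 1))⁻¹))]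

theorem exists_setup (hp : 3 ≤ p) (hk : k < p)
    (hr : ∀ x : ZMod p, x ≠ 0 → ∃ j : ℕ, x = (r : ZMod p) ^ j) (hsg : sg ≤ 1)
    (Ch : Choice p k sg r) :
    ∃ R : Finset (FreeGroup (Fin 4)), R.card ≤ 7 ∧
      ∃ (h : ∀ x ∈ (↑R : Set (FreeGroup (Fin 4))),
          FreeGroup.lift ![pA p k, pB p k sg r, pZ p k, pU p k sg] x = 1)
        (S : Setup p (PresentedGroup.toGroup h) (Sum.inl 0) (Sum.inl 1)
          (fun i => Sum.inr (pt p k i)) (p + k))
        (G : Glue S),
        S.a = PresentedGroup.mk (↑R) fa ∧ S.b = PresentedGroup.mk (↑R) fb ∧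
        S.z = PresentedGroup.mk (↑R) fz ∧ S.U = PresentedGroup.mk (↑R) fU ∧
        S.r = (r : ZMod p) ∧ G.t0 = PresentedGroup.mk (↑R) Ch.T0 ∧
        ∃ W' ∈ win p S.a S.z, G.Wd = S.b ^ sg * W' := by
  classical
  have hodd : Odd p := (Fact.out : p.Prime).odd_of_ne_two (by omega)
  have hp1 := (Fact.out : p.Prime).pos
  have : NeZero (p + k) := ⟨by omega⟩
  -- the exponent for the conjugation of `a`
  have hr1 : (1 - (r : ZMod p)) ≠ 0 := by
    intro h
    have h1 : (r : ZMod p) = 1 := (sub_eq_zero.mp h).symm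
    have h2 : (2 : ZMod p) ≠ 0 := by
      intro e
      have : ((2 : ℕ) : ZMod p) = 0 := by exact_mod_cast e
      have := Nat.le_of_dvd two_pos ((ZMod.natCast_eq_zero_iff _ _).mp this)
      omega
    obtain ⟨j, hj⟩ := hr 2 h2
    rw [h1, one_pow] at hj
    exact one_ne_zero (show (1 : ZMod p) = 0 by linear_combination hj)
  set s : ℕ := ((1 - (r : ZMod p))⁻¹).val with hsdef
  have hs : (s : ZMod p) * (1 - (r : ZMod p)) = 1 := by
    rw [hsdef, ZMod.natCast_zmod_val, inv_mul_cancel₀ hr1]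
  have hs0 : 1 ≤ s := Nat.pos_of_ne_zero fun h => by simp [h] at hs
  -- words
  have hB := sign_pB p k sg hr hp
  have hbsg : sign ((pB p k sg r ^ sg)⁻¹ * pD p k sg) = 1 := by
    rw [map_mul, map_inv, map_pow, hB, sign_pD p k sg hodd]
    interval_cases sg <;> decide
  obtain ⟨W, hW, eW⟩ := exists_word p k sg r Ch.hT0s (ab_fixes p k sg r Ch.hT0)
  obtain ⟨W1, hW1, eW1⟩ := exists_word p k sg r Ch.hσs (σ := Ch.σ1) fun x hx => Ch.hσf x (by omega)
  obtain ⟨W1', hW1', eW1'⟩ := exists_word p k sg r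
    (σ := pU p k sg * Ch.σ1 * (pU p k sg)⁻¹) (by simp [Ch.hσs]) (by
      intro x hx
      have hx' : pU p k sg (Sum.inr (pt p k (x.val - 1))) = Sum.inr x := by
        rw [pU, pm_inr, finRotate_apply]
        refine congrArg Sum.inr (Fin.ext ?_)
        rw [Fin.val_add, Fin.val_one', Nat.add_mod_mod, pt_val p k (by omega),
          show x.val - 1 + 1 = x.val by omega, Nat.mod_eq_of_lt x.isLt]
      rw [Perm.mul_apply, Perm.mul_apply, Perm.inv_eq_iff_eq.mpr hx'.symm,
        Ch.hσf _ (by rw [pt_val p k (by omega)]; omega), hx'])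
  obtain ⟨w', hw', ew'⟩ := exists_word p k sg r (σ := (pB p k sg r ^ sg)⁻¹ * pD p k sg) hbsg
    (mul_mem (inv_mem (pow_mem (pB_fixes p k sg r) _)) (pD_fixes p k sg))
  obtain ⟨Wd2, hWd2, eWd2⟩ := exists_word p k sg r (sign_pD2 p k) (pD2_fixes p k hk)
  set Wd := fb ^ sg * w' with hWd
  have eWd : Φ0 p k sg r Wd = pD p k sg := by
    rw [hWd, map_mul, map_pow, Φ0_b, ew', mul_inv_cancel_left]
  set ε : ℤ := (-1) ^ (sg + 1) with hε
  set δ : ℤ := (-1) ^ (sg + k) with hδ
  let L := relList p s ε δ Ch.T0 W W1 W1' Wd Wd2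
  let R : Finset (FreeGroup (Fin 4)) := (L.map fun e => e.1 * e.2⁻¹).toFinset
  have hR : ∀ x ∈ R, ∃ e ∈ L, e.1 * e.2⁻¹ = x := fun x hx => by simpa [R] using hx
  have hC1 : pA p k * pZ p k * (pA p k)⁻¹ = C (pt p k 1) := by
    have := pA_C p k 1 0
    rwa [pow_one, Nat.cast_one, add_zero, ← pZ_eq,
      show (1 : ZMod p) = ((1 : ℕ) : ZMod p) from Nat.cast_one.symm, wEmb_natCast p k (by omega)] at this
  have hval : ∀ e ∈ L, Φ0 p k sg r e.1 = Φ0 p k sg r e.2 := by
    intro e he
    simp only [L, relList, List.mem_cons, List.not_mem_nil, or_false] at he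
    rcases he with rfl | rfl | rfl | rfl | rfl | rfl | rfl
    · simp only [map_pow, Φ0_a, Φ0_b]
      rcases perm_rel1 p k sg r with ⟨h, -⟩ | h
      · rwa [mul_one] at h
      · omega
    · simp only [map_mul, map_inv, map_pow, Φ0_a, Φ0_b]
      exact perm_rel2 p k sg r hs0 hs
    · simp only [map_mul, map_inv, map_zpow, Φ0_b, Φ0_z, pZ_eq, pB_C, mul_zero, hε]
    · simp only [map_mul, map_inv, map_pow, Φ0_a, Φ0_z]
      rw [hC1]
      refine (C_sq fun h => ?_).trans (C_cube _).symm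
      have := congrArg Fin.val h
      rw [pt_val p k (by omega), pt_val p k (by omega)] at this
      omega
    · simp only [map_mul, map_inv, map_zpow, map_pow, Φ0_a, Φ0_z, Φ0_U]
      rw [hC1, show pZ p k = C (pt p k 0) from rfl, pU_C, show (4 : ℕ) = 3 + 1 from rfl, pow_succ,
        C_cube, one_mul]
    · simp only [map_mul, map_inv, Φ0_U, eW, eW1, eW1', mul_inv_cancel, mul_one]
    · simp only [map_mul, map_inv, map_pow, Φ0_U, eWd, eWd2]
      exact pU_eq p k sg hk
  have hrel : ∀ x ∈ (↑R : Set (FreeGroup (Fin 4))),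
      FreeGroup.lift ![pA p k, pB p k sg r, pZ p k, pU p k sg] x = 1 := fun x hx => by
    obtain ⟨e, he, rfl⟩ := hR x hx
    show Φ0 p k sg r (e.1 * e.2⁻¹) = 1
    rw [map_mul, map_inv, hval e he, mul_inv_cancel]
  refine ⟨R, (List.toFinset_card_le _).trans (by simp [L, relList]), hrel, ?_⟩
  set m := PresentedGroup.mk (↑R : Set (FreeGroup (Fin 4)))
  set Φ := PresentedGroup.toGroup hrel
  have hΦm : ∀ x, Φ (m x) = Φ0 p k sg r x := fun x => by
    refine DFunLike.congr_fun (f := Φ.comp m) (g := Φ0 p k sg r) ?_ x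
    apply FreeGroup.ext_hom
    intro i
    rw [MonoidHom.comp_apply, show m (FreeGroup.of i) = PresentedGroup.of i from rfl,
      show Φ (PresentedGroup.of i) = _ from PresentedGroup.toGroup.of hrel]
    simp [Φ0]
  have hm : ∀ e ∈ L, m e.1 = m e.2 := fun e he => by
    rw [← mul_inv_eq_one, ← map_inv, ← map_mul]
    exact PresentedGroup.one_of_mem (by simpa [R] using ⟨e.1, e.2, he, rfl⟩)
  have hwin : ∀ {w}, w ∈ win p fa fz → m w ∈ win p (m fa) (m fz) := fun {w} hw => by
    have h : (win p fa fz).map m ≤ win p (m fa) (m fz) := by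
      rw [win, MonoidHom.map_closure, Subgroup.closure_le]
      rintro _ ⟨_, ⟨x, rfl⟩, rfl⟩
      exact Subgroup.subset_closure ⟨x, by simp [wgen, tr]⟩
    exact h ⟨w, hw, rfl⟩
  let S : Setup p Φ (Sum.inl 0) (Sum.inl 1) (fun i => Sum.inr (pt p k i)) (p + k) :=
    { a := m fa, b := m fb, z := m fz, U := m fU, r := r, s := s, ε := ε, δ := δ
      hε := isSign_negOne _
      hδ := isSign_negOne _
      hr := hr
      hs0 := hs0
      hs := hs
      huv := by simp
      hqu := fun i => by simp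
      hqv := fun i => by simp
      hqinj := fun i j hi hj e => by
        have := congrArg Fin.val (Sum.inr_injective e)
        rwa [pt_val p k hi, pt_val p k hj] at this
      hper := fun i => congrArg Sum.inr (Fin.ext (Nat.add_mod_right i (p + k)))
      hpL := Nat.le_add_right _ _
      rel1 := by
        simpa only [map_mul, map_inv, map_pow, map_zpow] using
          hm (fa ^ p, fb ^ (p - 1)) (by simp only [L, relList, List.mem_cons, true_or, or_true])
      rel2 := by
        simpa only [map_mul, map_inv, map_pow, map_zpow] using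
          hm (fb * fa ^ s * fb⁻¹, fa ^ (s - 1)) (by simp only [L, relList, List.mem_cons, true_or, or_true])
      rel3 := by
        simpa only [map_mul, map_inv, map_pow, map_zpow] using
          hm (fb * fz * fb⁻¹, fz ^ ε) (by simp only [L, relList, List.mem_cons, true_or, or_true])
      rel4 := by
        have h4 := hm ((fz * (fa * fz * fa⁻¹)) ^ 2, fz ^ 3) (by simp only [L, relList, List.mem_cons, true_or, or_true])
        simp only [map_mul, map_inv, map_pow, map_zpow] at h4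
        exact h4
      rel6 := by
        simpa only [map_mul, map_inv, map_pow, map_zpow] using
          hm (fU * fz * fU⁻¹, ((fa * fz * fa⁻¹) ^ (4 : ℕ)) ^ δ) (by simp only [L, relList, List.mem_cons, true_or, or_true])
      hΦz := by rw [hΦm, Φ0_z]; rfl
      hΦa := fun x => by
        have := pA_C p k 1 x
        rw [hΦm, Φ0_a]
        rw [pow_one, Nat.cast_one, add_comm (1 : ZMod p)] at this
        exact this
      hΦU := fun i => by
        rw [hΦm, Φ0_U]
        show (pU p k sg * C (pt p k i) * (pU p k sg)⁻¹) ^ δ = C (pt p k (i + 1))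
        rw [pU_C, hδ]
        exact (isSign_negOne _).zpow_zpow _ }
  have hX : (pD p k sg)⁻¹ * pU p k sg = pm k ((Fin.cycleRange (pt p k (p - 1)))⁻¹ * finRotate (p + k)) := by
    rw [inv_mul_eq_iff_eq_mul, pD, pm_mul, mul_inv_cancel_left]
    rfl
  let G : Glue S :=
    { k := k, W := m W, W1 := m W1, W1' := m W1', t0 := m Ch.T0, Wd := m Wd, Wd2 := m Wd2
      n0 := Ch.n0, n1 := Ch.n1, η := (-1) ^ k
      hη := isSign_negOne _
      hk := hk
      hL := rfl
      hW := hwin hW
      hW1 := hwin hW1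
      hW1' := hwin hW1'
      ht0 := by
        have h : (Subgroup.closure ({fa, fb} : Set (FreeGroup (Fin 4)))).map m ≤
            Subgroup.closure ({m fa, m fb} : Set (PresentedGroup (↑R : Set (FreeGroup (Fin 4))))) := by
          rw [MonoidHom.map_closure]
          exact Subgroup.closure_mono (by simp [Set.image_pair])
        exact h ⟨_, Ch.hT0, rfl⟩
      hWd := by
        rw [hWd, map_mul, map_pow]
        exact mul_mem (Subgroup.mem_sup_left (pow_mem (show m fb ∈ Subgroup.closure ({m fa, m fb} :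
            Set (PresentedGroup (↑R : Set (FreeGroup (Fin 4))))) from Subgroup.subset_closure (Or.inr rfl)) _))
          (Subgroup.mem_sup_right (hwin hw'))
      hWd2 := hwin hWd2
      hWt := by rw [hΦm, hΦm, eW]
      hn0 := Ch.hn0 m S.ap_eq S.bp_eq
      hn1 := by rw [hΦm, eW1, Ch.hn1]
      hcop := Ch.hcop
      rel5 := by
        simpa only [map_mul, map_inv, map_pow, map_zpow] using
          hm (fU * (W1 * (Ch.T0 * W⁻¹)) * fU⁻¹, W1') (by simp only [L, relList, List.mem_cons, true_or, or_true])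
      rel7 := by
        simpa only [map_mul, map_inv, map_pow, map_zpow] using
          hm (fU, Wd * (fU ^ (p - 1) * Wd2 * (fU ^ (p - 1))⁻¹)) (by simp only [L, relList, List.mem_cons, true_or, or_true])
      hgen := fun i hi => by
        rw [hΦm, eW1]
        exact Ch.hgen i hi
      hD0 := by
        rw [hΦm, eWd, show Φ S.U = pU p k sg from (hΦm _).trans (Φ0_U p k sg r)]
        show (pD p k sg)⁻¹ * pU p k sg * C (pt p k 0) * ((pD p k sg)⁻¹ * pU p k sg)⁻¹ = _
        rw [hX, pm_C]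
        congr 2
        rw [Perm.mul_apply, finRotate_apply, Perm.inv_eq_iff_eq]
        apply Fin.ext
        rw [Fin.coe_cycleRange_of_lt (by simp only [Fin.lt_def, pt_val p k (show p - 1 < p + k by omega),
          pt_val p k (show 0 < p + k by omega)]; omega), Fin.val_add, Fin.val_one', Nat.add_mod_mod]
        simp [pt, Nat.mod_eq_of_lt (show 1 < p + k by omega)]
      hd2 := fun l hl => by
        rw [hΦm, eWd2]
        show pD2 p k * C (pt p k l) * (pD2 p k)⁻¹ = C (pt p k (l + 1)) ^ ((-1 : ℤ) ^ k)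
        rw [pD2, pm_C]
        congr 2
        apply Fin.ext
        rw [Fin.coe_cycleRange_of_lt (by simp only [Fin.lt_def, pt_val p k (show k < p + k by omega),
          pt_val p k (show l < p + k by omega)]; omega), pt_val p k (show l < p + k by omega),
          pt_val p k (show l + 1 < p + k by omega)]
      hd2k := by
        rw [hΦm, eWd2]
        show pD2 p k * C (pt p k k) * (pD2 p k)⁻¹ = C (pt p k 0) ^ ((-1 : ℤ) ^ k)
        rw [pD2, pm_C, Fin.cycleRange_self]
        congr 2 }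
  exact ⟨S, G, rfl, rfl, rfl, rfl, rfl, rfl, m w', hwin hw', by
    show m Wd = m fb ^ sg * m w'
    rw [hWd, map_mul, map_pow]⟩

end Cfsg.Agent.ShortPres.Shift
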